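import Mathlib
set_option linter.all false

/-!
# Involution centralizers of type `GL₂(q)/Z₀` and `GU₂(q)/Z₀`: common structure

`C` is an abstract group, a quotient of `GL₂(q)` (`ε = 1`) or `GU₂(q)` (`ε = -1`), `q` odd, by a
central subgroup `Z₀` of odd order `z₀`.

* `t` is the central involution;
* `Z` is the centre of `C`, cyclic of order `(q - ε) / z₀`;
* `T` is the torus of order `|Z| (q - ε)` (the diagonal matrices), `s` a noncentral involution of `C`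
  normalizing it;
* `T'` is the cyclic torus of order `|Z| (q + ε)` (nonsplit for `ε = 1`, split for `ε = -1`), `s'` a
  noncentral involution of `C` normalizing it;
* `U` is a root group (order `q`), `C_C(x) = Z U` for `x ∈ U`, `x ≠ 1`;
* `u` is a noncentral involution of `T` (`diag(1,-1)`);
* `b : C → ℂˣ` is a linear character of `2`-power order `r = (q - ε)_2` (`β ∘ det`).
-/

set_option autoImplicit false

namespace Cfsg.Agent.Classification.InvCent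

/-- The structure of `C`, an abstract group of type `GL₂(q)/Z₀` (`ε = 1`) or `GU₂(q)/Z₀`
(`ε = -1`). -/
structure CHyp {C : Type*} [Group C] (t : C) (q : ℕ) (ε : ℤ)
    (Z T T' U : Subgroup C) (s s' u : C) : Prop where
  orderOf_t : orderOf t = 2
  odd_q : Odd q
  one_lt_q : 1 < q
  eps : ε = 1 ∨ ε = -1
  -- containments
  t_mem : t ∈ Z
  Z_le_T : Z ≤ T
  Z_le_T' : Z ≤ T'
  -- orders
  card_Z : ∃ z₀ : ℕ, Odd z₀ ∧ (Nat.card Z : ℤ) * z₀ = q - ε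
  card_T : (Nat.card T : ℤ) = Nat.card Z * (q - ε)
  card_T' : (Nat.card T' : ℤ) = Nat.card Z * (q + ε)
  card_U : Nat.card U = q
  card_C : Nat.card C = Nat.card Z * (q * (q ^ 2 - 1))
  -- centralizers in `C`
  Z_central : ∀ z ∈ Z, ∀ c : C, c * z = z * c
  T_comm : ∀ x ∈ T, ∀ y ∈ T, x * y = y * x
  T'_cyclic : IsCyclic T'
  cent_T : ∀ x ∈ T, x ∉ Z → ∀ c : C, c * x = x * c → c ∈ T
  cent_T' : ∀ x ∈ T', x ∉ Z → ∀ c : C, c * x = x * c → c ∈ T'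
  U_comm : ∀ x ∈ U, ∀ y ∈ U, x * y = y * x
  cent_U : ∀ x ∈ U, x ≠ 1 → ∀ c : C, c * x = x * c → ∃ z ∈ Z, ∃ v ∈ U, c = z * v
  -- the reflection `s` of `T`
  s_sq : s * s = 1
  s_notMem : s ∉ T
  s_conj : ∀ x ∈ T, s * x * s⁻¹ ∈ T
  s_norm : ∀ x ∈ T, x * (s * x * s⁻¹) ∈ Z
  fus_T : ∀ x ∈ T, x ∉ Z → ∀ c : C, c * x * c⁻¹ ∈ T → c ∈ T ∨ s * c ∈ T
  card_T₀ : (Nat.card {x : T // (x : C) * (s * x * s⁻¹) = 1} : ℤ) = q - ε
  -- the reflection `s'` of `T'`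
  s'_sq : s' * s' = 1
  s'_notMem : s' ∉ T'
  s'_conj : ∀ x ∈ T', s' * x * s'⁻¹ ∈ T'
  s'_norm : ∀ x ∈ T', x * (s' * x * s'⁻¹) ∈ Z
  fus_T' : ∀ x ∈ T', x ∉ Z → ∀ c : C, c * x * c⁻¹ ∈ T' → c ∈ T' ∨ s' * c ∈ T'
  card_T'₀ : (Nat.card {x : T' // (x : C) * (s' * x * s'⁻¹) = 1} : ℤ) = q + ε
  -- the root group
  fus_U : ∀ x ∈ U, ∀ y ∈ U, x ≠ 1 → y ≠ 1 → ∃ c : C, c * x * c⁻¹ = y
  -- every element of `C` is conjugate into `T`, `T'` or `Z U`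
  exhaust : ∀ c : C, ∃ g : C, g * c * g⁻¹ ∈ T ∨ g * c * g⁻¹ ∈ T' ∨
    ∃ z ∈ Z, ∃ v ∈ U, g * c * g⁻¹ = z * v
  -- the involutions of `T`
  u_mem : u ∈ T
  orderOf_u : orderOf u = 2
  u_ne : u ≠ t
  s_u : s * u * s⁻¹ = t * u
  invol_T : ∀ x ∈ T, x * x = 1 → x = 1 ∨ x = t ∨ x = u ∨ x = t * u

/-- A linear character `b` of `C` of order `r`, the `2`-part of `q - ε` (a faithful character of the
`2`-part of the image of the determinant). -/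
structure DetHyp {C : Type*} [Group C] (q : ℕ) (ε : ℤ) (T T' U : Subgroup C) (s s' u : C)
    (r : ℕ) (b : C →* ℂˣ) : Prop where
  r_pow : ∃ m : ℕ, 1 ≤ m ∧ r = 2 ^ m
  r_dvd : ∃ k : ℤ, Odd k ∧ (q : ℤ) - ε = r * k
  pow_eq_one : ∀ c, b c ^ r = 1
  b_u : b u = -1
  b_U : ∀ x ∈ U, b x = 1
  b_T₀ : ∀ x ∈ T, x * (s * x * s⁻¹) = 1 → b x = 1
  b_T'₀ : ∀ x ∈ T', x * (s' * x * s'⁻¹) = 1 → b x = 1
  /-- `b` has order `r` on `T` and on `T'` -/
  exists_T : ∃ x ∈ T, orderOf (b x) = r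
  exists_T' : ∃ x ∈ T', orderOf (b x) = r

end Cfsg.Agent.Classification.InvCent
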