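import Mathlib
import Cfsg.Agent.Classification.InvCent.Defs
set_option linter.all false

/-!
# Fusion of involutions for a centralizer of type `GL₂(q)/Z₀`, `GU₂(q)/Z₀`

`G` finite, `C = C_G(t)` satisfies `CHyp`, `t` commutes with one of its conjugates `≠ t`. Then all
involutions of `G` are conjugate and some element of `G` swaps `t` and `u`.
-/

set_option autoImplicit false

namespace Cfsg.Agent.Classification.InvCent.FusionCore

open Cfsg.Agent.Classification.InvCent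

/-- Two involutions in a finite cyclic subgroup are equal. -/
theorem eq_of_cyclic {C : Type*} [Group C] {A : Subgroup C} (hA : IsCyclic A) [Finite C] {x y : C}
    (hx : x ∈ A) (hy : y ∈ A) (hx2 : orderOf x = 2) (hy2 : orderOf y = 2) : x = y := by
  classical
  by_contra hne
  have := Fintype.ofFinite A
  have hcard := IsCyclic.card_pow_eq_one_le (α := A) (n := 2) (by norm_num)
  have hsub : ({1, ⟨x, hx⟩, ⟨y, hy⟩} : Finset A) ⊆ Finset.univ.filter fun a : A => a ^ 2 = 1 := by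
    intro a ha
    simp only [Finset.mem_insert, Finset.mem_singleton] at ha
    rw [Finset.mem_filter]
    refine ⟨Finset.mem_univ _, ?_⟩
    rcases ha with rfl | rfl | rfl
    · exact one_pow 2
    · ext; push_cast; rw [← hx2]; exact pow_orderOf_eq_one x
    · ext; push_cast; rw [← hy2]; exact pow_orderOf_eq_one y
  have h3 : ({1, ⟨x, hx⟩, ⟨y, hy⟩} : Finset A).card = 3 := by
    rw [Finset.card_insert_of_notMem, Finset.card_insert_of_notMem, Finset.card_singleton]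
    · rw [Finset.mem_singleton, Subtype.mk.injEq]; exact hne
    · rw [Finset.mem_insert, Finset.mem_singleton]
      rintro (h | h)
      · have := congrArg Subtype.val h
        change (1 : C) = x at this
        rw [← this, orderOf_one] at hx2; omega
      · have := congrArg Subtype.val h
        change (1 : C) = y at this
        rw [← this, orderOf_one] at hy2; omega
  have := Finset.card_le_card hsub
  omega

section Inner

variable {C : Type*} [Group C] {t : C} {q : ℕ} {ε : ℤ} {Z T T' U : Subgroup C} {s s' u : C}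

theorem finite_C (h : CHyp t q ε Z T T' U s s' u) : Finite C := by
  have hq : (1 : ℤ) < q := by exact_mod_cast h.one_lt_q
  have hC := h.card_C
  have hZ : Nat.card Z ≠ 0 := by
    intro h0
    obtain ⟨z₀, -, hz⟩ := h.card_Z
    rw [h0, Nat.cast_zero, zero_mul] at hz
    rcases h.eps with he | he <;> rw [he] at hz <;> omega
  refine Nat.finite_of_card_ne_zero ?_
  rw [hC]
  have h1 : 1 < q ^ 2 := by nlinarith [h.one_lt_q]
  have h2 : q ^ 2 - 1 ≠ 0 := by omega
  have h3 : q ≠ 0 := by have := h.one_lt_q; omega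
  exact mul_ne_zero hZ (mul_ne_zero h3 h2)

theorem t_central (h : CHyp t q ε Z T T' U s s' u) (c : C) : c * t = t * c :=
  h.Z_central t h.t_mem c

theorem conj_t (h : CHyp t q ε Z T T' U s s' u) (c : C) : c * t * c⁻¹ = t := by
  rw [t_central h, mul_inv_cancel_right]

theorem orderOf_conj {C : Type*} [Group C] (g c : C) : orderOf (g * c * g⁻¹) = orderOf c := by
  have := orderOf_injective (MulAut.conj g).toMonoidHom (MulAut.conj g).injective c
  simpa using this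

/-- The involutions of `C` are `t` and the conjugates of `u`. -/
theorem eq_or_conj (h : CHyp t q ε Z T T' U s s' u) {c : C} (hc : orderOf c = 2) :
    c = t ∨ ∃ g : C, g * c * g⁻¹ = u := by
  have hfin := finite_C h
  obtain ⟨g, hg⟩ := h.exhaust c
  have hgc : orderOf (g * c * g⁻¹) = 2 := (orderOf_conj g c).trans hc
  have hcen : g * c * g⁻¹ = t → c = t := by
    intro h1
    have : c = g⁻¹ * t * g⁻¹⁻¹ := by rw [← h1]; group
    rw [this, conj_t h]
  rcases hg with hT | hT' | ⟨z, hz, v, hv, hzv⟩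
  · have hsq : (g * c * g⁻¹) * (g * c * g⁻¹) = 1 := by
      rw [← pow_two, ← hgc, pow_orderOf_eq_one]
    rcases h.invol_T _ hT hsq with h1 | h1 | h1 | h1
    · rw [h1, orderOf_one] at hgc; omega
    · exact Or.inl (hcen h1)
    · exact Or.inr ⟨g, h1⟩
    · refine Or.inr ⟨s⁻¹ * g, ?_⟩
      have h2 : u = s⁻¹ * (t * u) * s := by rw [← h.s_u]; group
      calc s⁻¹ * g * c * (s⁻¹ * g)⁻¹ = s⁻¹ * (g * c * g⁻¹) * s := by group
        _ = s⁻¹ * (t * u) * s := by rw [h1]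
        _ = u := h2.symm
  · left
    exact hcen (eq_of_cyclic h.T'_cyclic hT' (h.Z_le_T' h.t_mem) hgc h.orderOf_t)
  · left
    apply hcen
    have hcomm : Commute z v := (h.Z_central z hz v).symm
    have hodd : Odd (Nat.card U) := by rw [h.card_U]; exact h.odd_q
    have hvc : v ^ Nat.card U = 1 := by
      have : (⟨v, hv⟩ : U) ^ Nat.card U = 1 := pow_card_eq_one'
      exact congrArg Subtype.val this
    have h1 : g * c * g⁻¹ = z ^ Nat.card U := by
      obtain ⟨k, hk⟩ := hodd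
      have h2 : (g * c * g⁻¹) ^ Nat.card U = g * c * g⁻¹ := by
        rw [hk, pow_succ, pow_mul, ← hgc, pow_orderOf_eq_one, one_pow, one_mul]
      rw [← h2, hzv, hcomm.mul_pow, hvc, mul_one]
    have hmem : g * c * g⁻¹ ∈ T' := by
      rw [h1]
      exact h.Z_le_T' (Z.pow_mem hz _)
    exact eq_of_cyclic h.T'_cyclic hmem (h.Z_le_T' h.t_mem) hgc h.orderOf_t

/-- Every noncentral involution `c` of `C` is conjugate to `t c`. -/
theorem exists_conj_mul (h : CHyp t q ε Z T T' U s s' u) {c : C} (hc : orderOf c = 2)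
    (hct : c ≠ t) : ∃ g : C, g * c * g⁻¹ = t * c := by
  rcases eq_or_conj h hc with h1 | ⟨g, hg⟩
  · exact absurd h1 hct
  · refine ⟨g⁻¹ * s * g, ?_⟩
    have h2 : c = g⁻¹ * u * g := by rw [← hg]; group
    calc g⁻¹ * s * g * c * (g⁻¹ * s * g)⁻¹ = g⁻¹ * (s * (g * c * g⁻¹) * s⁻¹) * g := by group
      _ = g⁻¹ * (t * u) * g := by rw [hg, h.s_u]
      _ = (g⁻¹ * t * g⁻¹⁻¹) * (g⁻¹ * u * g) := by group
      _ = t * c := by rw [conj_t h, ← h2]

end Inner

section Outer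

variable {G : Type*} [Group G] [Finite G] {t₀ : G} {q : ℕ} {ε : ℤ}
  {t : Subgroup.centralizer ({t₀} : Set G)} {Z T T' U : Subgroup (Subgroup.centralizer ({t₀} : Set G))}
  {s s' u : Subgroup.centralizer ({t₀} : Set G)}

omit [Finite G] in
theorem mem_cent {x y : G} : y ∈ Subgroup.centralizer ({x} : Set G) ↔ y * x = x * y :=
  Subgroup.mem_centralizer_singleton_iff

omit [Finite G] in
/-- `t₀` is conjugate to `u`. -/
theorem exists_conj_u (ht : (t : G) = t₀) (h : CHyp t q ε Z T T' U s s' u)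
    (hne : ∃ g : G, g * t₀ * g⁻¹ ≠ t₀ ∧ Commute t₀ (g * t₀ * g⁻¹)) :
    ∃ g : G, g * t₀ * g⁻¹ = u := by
  obtain ⟨g, hg1, hg2⟩ := hne
  have hmem : g * t₀ * g⁻¹ ∈ Subgroup.centralizer ({t₀} : Set G) := mem_cent.2 hg2.symm
  have ht2 : orderOf t₀ = 2 := by rw [← ht, Subgroup.orderOf_coe]; exact h.orderOf_t
  have ho : orderOf (⟨g * t₀ * g⁻¹, hmem⟩ : Subgroup.centralizer ({t₀} : Set G)) = 2 := by
    rw [Subgroup.orderOf_mk, orderOf_conj]; exact ht2
  rcases eq_or_conj h ho with h1 | ⟨c, hc⟩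
  · exact absurd ((congrArg Subtype.val h1).trans ht) hg1
  · refine ⟨c * g, ?_⟩
    have := congrArg Subtype.val hc
    change (c : G) * (g * t₀ * g⁻¹) * (c : G)⁻¹ = u at this
    rw [← this]
    group

omit [Finite G] in
/-- Every involution commuting with `t₀` is conjugate to `t₀`. -/
theorem isConj_of_commute (ht : (t : G) = t₀) (h : CHyp t q ε Z T T' U s s' u)
    (hne : ∃ g : G, g * t₀ * g⁻¹ ≠ t₀ ∧ Commute t₀ (g * t₀ * g⁻¹)) {x : G}
    (hx : orderOf x = 2) (hxt : x * t₀ = t₀ * x) : IsConj t₀ x := by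
  obtain ⟨g, hg⟩ := exists_conj_u ht h hne
  have ho : orderOf (⟨x, mem_cent.2 hxt⟩ : Subgroup.centralizer ({t₀} : Set G)) = 2 := by
    rw [Subgroup.orderOf_mk]; exact hx
  rcases eq_or_conj h ho with h1 | ⟨c, hc⟩
  · rw [← (congrArg Subtype.val h1).trans ht]
  · have h2 := congrArg Subtype.val hc
    change (c : G) * x * (c : G)⁻¹ = u at h2
    refine isConj_iff.2 ⟨(c : G)⁻¹ * g, ?_⟩
    calc (c : G)⁻¹ * g * t₀ * ((c : G)⁻¹ * g)⁻¹ = (c : G)⁻¹ * (g * t₀ * g⁻¹) * c := by group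
      _ = (c : G)⁻¹ * ((c : G) * x * (c : G)⁻¹) * c := by rw [hg, h2]
      _ = x := by group

/-- All involutions are conjugate. -/
theorem isConj_of_orderOf (ht : (t : G) = t₀) (h : CHyp t q ε Z T T' U s s' u)
    (hne : ∃ g : G, g * t₀ * g⁻¹ ≠ t₀ ∧ Commute t₀ (g * t₀ * g⁻¹)) {x : G}
    (hx : orderOf x = 2) : IsConj t₀ x := by
  classical
  have : Fact (Nat.Prime 2) := ⟨Nat.prime_two⟩
  have ht2 : orderOf t₀ = 2 := by rw [← ht, Subgroup.orderOf_coe]; exact h.orderOf_t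
  have hP : ∀ y : G, orderOf y = 2 → ∃ P : Sylow 2 G, y ∈ P := by
    intro y hy
    have hp : IsPGroup 2 (Subgroup.zpowers y) := by
      rw [IsPGroup.iff_card]
      exact ⟨1, by rw [Nat.card_zpowers, hy, pow_one]⟩
    obtain ⟨P, hP⟩ := hp.exists_le_sylow
    exact ⟨P, hP (Subgroup.mem_zpowers y)⟩
  obtain ⟨S, hS⟩ := hP t₀ ht2
  -- an involution in the centre of `S`
  have hnt : Nontrivial S := by
    refine ⟨⟨t₀, hS⟩, 1, fun h1 => ?_⟩
    have := congrArg Subtype.val h1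
    change t₀ = 1 at this
    rw [this, orderOf_one] at ht2
    omega
  have hcn : Nontrivial (Subgroup.center S) := S.isPGroup'.center_nontrivial
  have hcp : IsPGroup 2 (Subgroup.center S) := S.isPGroup'.to_subgroup _
  have hdvd : 2 ∣ Nat.card (Subgroup.center S) := by
    obtain ⟨n, hn⟩ := IsPGroup.iff_card.1 hcp
    rw [hn]
    have : n ≠ 0 := by
      rintro rfl
      rw [pow_zero] at hn
      exact absurd hn (Finite.one_lt_card (α := Subgroup.center S)).ne'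
    exact dvd_pow_self 2 this
  obtain ⟨z, hz⟩ := exists_prime_orderOf_dvd_card' 2 hdvd
  set z' : G := ((z : S) : G) with hz'
  have hz2 : orderOf z' = 2 := by
    rw [hz', Subgroup.orderOf_coe, Subgroup.orderOf_coe]; exact hz
  have hzS : ∀ y ∈ S, y * z' = z' * y := by
    intro y hy
    have := Subgroup.mem_center_iff.1 z.2 ⟨y, hy⟩
    exact congrArg Subtype.val this
  have hzt := isConj_of_commute ht h hne hz2 (hzS t₀ hS).symm
  obtain ⟨g, hg⟩ := isConj_iff.1 hzt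
  -- conjugate `x` into `S`
  obtain ⟨S', hS'⟩ := hP x hx
  obtain ⟨k, hk⟩ := MulAction.exists_smul_eq G S' S
  have hxS : k * x * k⁻¹ ∈ S := by
    change k * x * k⁻¹ ∈ (S : Subgroup G)
    rw [← hk]
    exact Subgroup.smul_mem_pointwise_smul x (MulAut.conj k) (S' : Subgroup G) hS'
  have hcomm := hzS _ hxS
  have h1 : (g⁻¹ * (k * x * k⁻¹) * g) * t₀ = t₀ * (g⁻¹ * (k * x * k⁻¹) * g) := by
    have h2 : t₀ = g⁻¹ * z' * g := by rw [← hg]; group
    calc (g⁻¹ * (k * x * k⁻¹) * g) * t₀ = g⁻¹ * ((k * x * k⁻¹) * z') * g := by rw [h2]; group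
      _ = g⁻¹ * (z' * (k * x * k⁻¹)) * g := by rw [hcomm]
      _ = t₀ * (g⁻¹ * (k * x * k⁻¹) * g) := by rw [h2]; group
  have h3 : orderOf (g⁻¹ * (k * x * k⁻¹) * g) = 2 := by
    have h4 : g⁻¹ * (k * x * k⁻¹) * g = (g⁻¹ * k) * x * (g⁻¹ * k)⁻¹ := by group
    rw [h4, orderOf_conj, hx]
  have h5 := isConj_of_commute ht h hne h3 h1
  refine h5.trans (isConj_iff.2 ⟨k⁻¹ * g, ?_⟩)
  group

omit [Finite G] in
/-- Some element of `G` swaps `t₀` and `u`. -/
theorem exists_swap (ht : (t : G) = t₀) (h : CHyp t q ε Z T T' U s s' u)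
    (hne : ∃ g : G, g * t₀ * g⁻¹ ≠ t₀ ∧ Commute t₀ (g * t₀ * g⁻¹)) :
    ∃ w : G, w * t₀ * w⁻¹ = u ∧ w * (u : G) * w⁻¹ = t₀ := by
  obtain ⟨g, hg⟩ := exists_conj_u ht h hne
  have ht2 : orderOf t₀ = 2 := by rw [← ht, Subgroup.orderOf_coe]; exact h.orderOf_t
  have htt : t₀ * t₀ = 1 := by rw [← pow_two, ← ht2, pow_orderOf_eq_one]
  have hu2 : orderOf (u : G) = 2 := by rw [Subgroup.orderOf_coe]; exact h.orderOf_u
  have huu : (u : G) * u = 1 := by rw [← pow_two, ← hu2, pow_orderOf_eq_one]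
  have hut : (u : G) * t₀ = t₀ * u := mem_cent.1 u.2
  -- `r` centralizes `u` and maps `t₀` to `t₀ u`
  obtain ⟨r, hr1, hr2⟩ : ∃ r : G, r * (u : G) * r⁻¹ = u ∧ r * t₀ * r⁻¹ = t₀ * u := by
    have hmem : (g⁻¹ * t₀ * g) * t₀ = t₀ * (g⁻¹ * t₀ * g) := by
      have h2 : t₀ = g⁻¹ * (u : G) * g := by rw [← hg]; group
      calc (g⁻¹ * t₀ * g) * t₀ = (g⁻¹ * t₀ * g) * (g⁻¹ * (u : G) * g) := by rw [← h2]
        _ = g⁻¹ * (t₀ * u) * g := by group
        _ = g⁻¹ * (u * t₀) * g := by rw [hut]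
        _ = (g⁻¹ * (u : G) * g) * (g⁻¹ * t₀ * g) := by group
        _ = t₀ * (g⁻¹ * t₀ * g) := by rw [← h2]
    have ho : orderOf (⟨g⁻¹ * t₀ * g, mem_cent.2 hmem⟩ :
        Subgroup.centralizer ({t₀} : Set G)) = 2 := by
      rw [Subgroup.orderOf_mk]
      have h4 : g⁻¹ * t₀ * g = g⁻¹ * t₀ * g⁻¹⁻¹ := by rw [inv_inv]
      rw [h4, orderOf_conj, ht2]
    have hnt : (⟨g⁻¹ * t₀ * g, mem_cent.2 hmem⟩ : Subgroup.centralizer ({t₀} : Set G)) ≠ t := by
      intro h1
      have h2 := (congrArg Subtype.val h1).trans ht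
      change g⁻¹ * t₀ * g = t₀ at h2
      have h3 : g * t₀ * g⁻¹ = t₀ := by
        calc g * t₀ * g⁻¹ = g * (g⁻¹ * t₀ * g) * g⁻¹ := by rw [h2]
          _ = t₀ := by group
      rw [hg] at h3
      apply h.u_ne
      exact Subtype.ext (h3.trans ht.symm)
    obtain ⟨c, hc⟩ := exists_conj_mul h ho hnt
    have hc' := congrArg Subtype.val hc
    change (c : G) * (g⁻¹ * t₀ * g) * (c : G)⁻¹ = (t : G) * (g⁻¹ * t₀ * g) at hc'
    rw [ht] at hc'
    have hct : (c : G) * t₀ = t₀ * c := mem_cent.1 c.2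
    refine ⟨g * c * g⁻¹, ?_, ?_⟩
    · rw [← hg]
      calc g * (c : G) * g⁻¹ * (g * t₀ * g⁻¹) * (g * (c : G) * g⁻¹)⁻¹ =
          g * ((c : G) * t₀) * (c : G)⁻¹ * g⁻¹ := by group
        _ = g * (t₀ * c) * (c : G)⁻¹ * g⁻¹ := by rw [hct]
        _ = g * t₀ * g⁻¹ := by group
    · calc g * (c : G) * g⁻¹ * t₀ * (g * (c : G) * g⁻¹)⁻¹ =
          g * ((c : G) * (g⁻¹ * t₀ * g) * (c : G)⁻¹) * g⁻¹ := by group
        _ = g * (t₀ * (g⁻¹ * t₀ * g)) * g⁻¹ := by rw [hc']
        _ = (g * t₀ * g⁻¹) * t₀ := by group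
        _ = t₀ * u := by rw [hg, hut]
  -- `s` centralizes `t₀` and maps `u` to `t₀ u`
  have hs1 : (s : G) * (u : G) * (s : G)⁻¹ = t₀ * u := by
    have := congrArg Subtype.val h.s_u
    change (s : G) * (u : G) * (s : G)⁻¹ = (t : G) * u at this
    rw [this, ht]
  have hst : (s : G) * t₀ * (s : G)⁻¹ = t₀ := by
    rw [mem_cent.1 s.2, mul_inv_cancel_right]
  have hss : (s : G)⁻¹ = s := by
    have := congrArg Subtype.val h.s_sq
    change (s : G) * s = 1 at this
    exact inv_eq_of_mul_eq_one_left this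
  have hrr : r * (t₀ * u) * r⁻¹ = t₀ := by
    calc r * (t₀ * u) * r⁻¹ = (r * t₀ * r⁻¹) * (r * (u : G) * r⁻¹) := by group
      _ = t₀ * u * u := by rw [hr1, hr2]
      _ = t₀ := by rw [mul_assoc, huu, mul_one]
  have hsu : (s : G)⁻¹ * (u : G) * s = t₀ * u := by
    calc (s : G)⁻¹ * (u : G) * s = (s : G) * (u : G) * (s : G)⁻¹ := by rw [hss]
      _ = t₀ * u := hs1
  have hst' : (s : G)⁻¹ * t₀ * s = t₀ := by
    calc (s : G)⁻¹ * t₀ * s = (s : G) * t₀ * (s : G)⁻¹ := by rw [hss]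
      _ = t₀ := hst
  refine ⟨s * r * (s : G)⁻¹, ?_, ?_⟩
  · calc (s : G) * r * (s : G)⁻¹ * t₀ * ((s : G) * r * (s : G)⁻¹)⁻¹ =
        (s : G) * (r * ((s : G)⁻¹ * t₀ * s) * r⁻¹) * (s : G)⁻¹ := by group
      _ = (s : G) * (t₀ * u) * (s : G)⁻¹ := by rw [hst', hr2]
      _ = ((s : G) * t₀ * (s : G)⁻¹) * ((s : G) * (u : G) * (s : G)⁻¹) := by group
      _ = u := by rw [hst, hs1, ← mul_assoc, htt, one_mul]
  · calc (s : G) * r * (s : G)⁻¹ * (u : G) * ((s : G) * r * (s : G)⁻¹)⁻¹ =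
        (s : G) * (r * ((s : G)⁻¹ * (u : G) * s) * r⁻¹) * (s : G)⁻¹ := by group
      _ = (s : G) * t₀ * (s : G)⁻¹ := by rw [hsu, hrr]
      _ = t₀ := hst

end Outer

end Cfsg.Agent.Classification.InvCent.FusionCore
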