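import Mathlib
import Cfsg.Prelude.Def_Characters
import Cfsg.Prelude.Def_Blocks
import Cfsg.Agent.Characters.Core
import Cfsg.Agent.Characters.Brauer
import Cfsg.Agent.Blocks.Basic
import Cfsg.Agent.Blocks.Residue
import Cfsg.Agent.Blocks.PrincipalInflate
import Cfsg.Agent.Classification.InvCent.CTorus
import Cfsg.Agent.Blocks.PrincipalConstGen
import Cfsg.Agent.Classification.RTwo.General
import Cfsg.Agent.Classification.QDW.CoreConst
import Cfsg.Agent.Classification.InvCent.PairCount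
set_option linter.all false

-- part: Classification/InvCent/BlockC
section
/-!
# The principal 2-block of `C` of type `GL₂(q)/Z₀`, `GU₂(q)/Z₀`

A character `ψ` of the principal 2-block of `C` satisfies, on the elements `c` of odd order,
`ψ c = 1/2 (a R_T(1) c + b R_T'(1) c)` for two constants `a`, `b` (`CHyp.exists_eval`).

* `eq_of_fourier`: a function on an abelian group orthogonal to all the linear characters
  nontrivial at `y` is invariant under translation by `y`;
* `Torus.ssum_eq_zero`: `ψ` is orthogonal to `R_T(θ)` for `θ y ≠ 1`, `y` of odd order;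
* `Torus.G_eq`: the resulting equality of the values of `ψ` on `T`.
-/

set_option autoImplicit false
set_option linter.unusedSectionVars false

open Cfsg
open scoped ComplexConjugate

namespace Cfsg.Agent.Classification.InvCent

open Cfsg.Agent.Characters Cfsg.Agent.Blocks.Local

section Fourier

variable {C : Type*} [Group C] [Fintype C]

theorem ssum_translate {T : Subgroup C} {a : C} (ha : a ∈ T) (F : C → ℂ) :
    ssum T (fun x => F (a * x)) = ssum T F :=
  ssum_equiv (Equiv.mulLeft a) (fun x => by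
    rw [Equiv.coe_mulLeft]; exact T.mul_mem_cancel_left ha) F

theorem ssum_eq_zero_of_shift {T : Subgroup C} {a : C} (ha : a ∈ T) {k : ℂ} (hk : k ≠ 1)
    {F : C → ℂ} (hF : ∀ x ∈ T, F (a * x) = k * F x) : ssum T F = 0 := by
  have h1 : ssum T F = k * ssum T F := by
    rw [← ssum_mul, ← ssum_congr hF, ssum_translate ha]
  have h2 : (1 - k) * ssum T F = 0 := by linear_combination h1
  exact (mul_eq_zero.1 h2).resolve_left (sub_ne_zero.2 hk.symm)

/-- The zero extension of a linear character. -/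
noncomputable def lext (T : Subgroup C) (θ : T →* ℂ) : C → ℂ := extendByZero T (fun x => θ x)

theorem lext_apply {T : Subgroup C} (θ : T →* ℂ) {x : C} (hx : x ∈ T) :
    lext T θ x = θ ⟨x, hx⟩ := Core.extendByZero_of_mem _ _ hx

theorem lext_mul {T : Subgroup C} (θ : T →* ℂ) {x y : C} (hx : x ∈ T) (hy : y ∈ T) :
    lext T θ (x * y) = lext T θ x * lext T θ y := by
  rw [lext_apply θ hx, lext_apply θ hy, lext_apply θ (mul_mem hx hy), ← map_mul]
  rfl

theorem lext_one {T : Subgroup C} (θ : T →* ℂ) : lext T θ 1 = 1 := by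
  rw [lext_apply θ (one_mem T)]
  exact map_one θ

theorem lext_pow {T : Subgroup C} (θ : T →* ℂ) {x : C} (hx : x ∈ T) (n : ℕ) :
    lext T θ x ^ n = lext T θ (x ^ n) := by
  rw [lext_apply θ hx, lext_apply θ (pow_mem hx n), ← map_pow]
  rfl

theorem lext_mul_conj {T : Subgroup C} (θ : T →* ℂ) {x : C} (hx : x ∈ T) :
    lext T θ x * conj (lext T θ x) = 1 := by
  have h1 : lext T θ x ^ orderOf x = 1 := by
    rw [lext_pow θ hx, pow_orderOf_eq_one, lext_one]
  have h2 : ‖lext T θ x‖ = 1 := Complex.norm_eq_one_of_pow_eq_one h1 (orderOf_pos x).ne'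
  rw [Complex.mul_conj, Complex.normSq_eq_norm_sq, h2]
  norm_num

theorem lext_ne_zero {T : Subgroup C} (θ : T →* ℂ) {x : C} (hx : x ∈ T) : lext T θ x ≠ 0 := by
  intro h
  have := lext_mul_conj θ hx
  rw [h, zero_mul] at this
  exact zero_ne_one this

/-- A function orthogonal to the linear characters nontrivial at `y` is invariant under the
translation by `y`. -/
theorem eq_of_fourier {T : Subgroup C} (hcomm : ∀ x ∈ T, ∀ y ∈ T, x * y = y * x) {G : C → ℂ}
    {y : C} (hy : y ∈ T)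
    (h : ∀ θ : T →* ℂ, lext T θ y ≠ 1 → ssum T (fun x => lext T θ x * conj (G x)) = 0) {x : C}
    (hx : x ∈ T) : G (y * x) = G x := by
  classical
  let _ : CommGroup T := { (inferInstance : Group T) with
    mul_comm := fun x y => Subtype.ext (hcomm x x.2 y y.2) }
  obtain ⟨S, hS⟩ := Brauer.exists_dual T
  have key : ∀ x₀ ∈ T, (Nat.card T : ℂ) * conj (G x₀) =
      ∑ θ ∈ S, lext T θ x₀⁻¹ * ssum T (fun x => lext T θ x * conj (G x)) := by
    intro x₀ hx₀
    have h1 : ∀ θ ∈ S, lext T θ x₀⁻¹ * ssum T (fun x => lext T θ x * conj (G x)) =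
        ∑ x : C, if x ∈ T then lext T θ (x₀⁻¹ * x) * conj (G x) else 0 := by
      intro θ _
      rw [← ssum_mul]
      refine ssum_congr fun x hx => ?_
      rw [lext_mul θ (inv_mem hx₀) hx]
      ring
    rw [Finset.sum_congr rfl h1, Finset.sum_comm, Finset.sum_eq_single x₀]
    · simp only [if_pos hx₀]
      rw [← Finset.sum_mul]
      congr 1
      have h2 := hS 1
      rw [if_pos rfl] at h2
      rw [← h2]
      refine Finset.sum_congr rfl fun θ _ => ?_
      rw [inv_mul_cancel, lext_one, map_one]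
    · intro x _ hxx
      split_ifs with hx
      · rw [← Finset.sum_mul]
        have h2 := hS ⟨x₀⁻¹ * x, mul_mem (inv_mem hx₀) hx⟩
        rw [if_neg] at h2
        · rw [Finset.sum_congr rfl (fun θ _ =>
            lext_apply θ (mul_mem (inv_mem hx₀) hx)), h2, zero_mul]
        · intro h3
          apply hxx
          have h4 : x₀⁻¹ * x = 1 := congrArg Subtype.val h3
          exact (inv_mul_eq_one.1 h4).symm
      · exact Finset.sum_const_zero
    · intro h2
      exact absurd (Finset.mem_univ _) h2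
  have h1 := key (y * x) (mul_mem hy hx)
  have h2 := key x hx
  have h3 : ∑ θ ∈ S, lext T θ (y * x)⁻¹ * ssum T (fun x => lext T θ x * conj (G x)) =
      ∑ θ ∈ S, lext T θ x⁻¹ * ssum T (fun x => lext T θ x * conj (G x)) := by
    refine Finset.sum_congr rfl fun θ _ => ?_
    by_cases hθ : lext T θ y = 1
    · congr 1
      rw [mul_inv_rev, lext_mul θ (inv_mem hx) (inv_mem hy)]
      have h4 : lext T θ y⁻¹ * lext T θ y = 1 := by
        rw [← lext_mul θ (inv_mem hy) hy, inv_mul_cancel, lext_one]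
      rw [hθ, mul_one] at h4
      rw [h4, mul_one]
    · rw [h θ hθ, mul_zero, mul_zero]
  rw [h3, ← h2] at h1
  have h4 : (Nat.card T : ℂ) ≠ 0 := by exact_mod_cast Nat.card_pos.ne'
  have h5 := mul_left_cancel₀ h4 h1
  have h6 := congrArg conj h5
  rwa [Complex.conj_conj, Complex.conj_conj] at h6

end Fourier

namespace Torus

variable {C : Type*} [Group C] [Fintype C] {q : ℕ} {δ δ' : ℤ} {Z T T' U : Subgroup C} {s s' : C}

open Classical in
/-- The modification of `ψ` on `Z`. -/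
noncomputable def GG (q : ℕ) (δ : ℤ) (Z : Subgroup C) (ψ : C → ℂ) (v₀ : C) (x : C) : ℂ :=
  ψ x - if x ∈ Z then (((q : ℂ) - δ) / q) * (ψ x - ψ (x * v₀)) else 0

theorem GG_Z {ψ : C → ℂ} {v₀ x : C} (hx : x ∈ Z) :
    GG q δ Z ψ v₀ x = ψ x - (((q : ℂ) - δ) / q) * (ψ x - ψ (x * v₀)) := by
  unfold GG
  rw [if_pos hx]

theorem GG_notMem {ψ : C → ℂ} {v₀ x : C} (hx : x ∉ Z) : GG q δ Z ψ v₀ x = ψ x := by
  unfold GG
  rw [if_neg hx, sub_zero]

/-- Inner products of `ψ` with the `R_T(f)`. -/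
theorem classInner_R_GG (h : Torus q δ Z T s) (hb : Base q Z U) {μ : U →* ℂˣ}
    (hμ : ∃ v : U, μ v ≠ 1) (f : C → ℂ) {ψ : C → ℂ} (hψ : IsClassFunction C ψ) {v₀ : C}
    (hv₀ : v₀ ∈ U) (hv₀1 : v₀ ≠ 1) :
    classInner (R T hb μ f) ψ =
      (Nat.card T : ℂ)⁻¹ * ssum T (fun x => f x * conj (GG q δ Z ψ v₀ x)) := by
  rw [classInner_R hb hμ f hψ hv₀ hv₀1]
  have h1 : ssum T (fun x => f x * conj (ψ x) - f x * conj (GG q δ Z ψ v₀ x)) =
      ssum Z (fun x => f x * conj (ψ x) - f x * conj (GG q δ Z ψ v₀ x)) := by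
    refine ssum_of_support h.Z_le fun x hx hxZ => ?_
    rw [GG_notMem hxZ, sub_self]
  have h2 : ssum Z (fun x => f x * conj (ψ x) - f x * conj (GG q δ Z ψ v₀ x)) =
      (((q : ℂ) - δ) / q) * ssum Z (fun z => f z * conj (ψ z - ψ (z * v₀))) := by
    rw [← ssum_mul]
    refine ssum_congr fun z hz => ?_
    rw [GG_Z hz]
    simp only [map_sub, map_mul, map_div₀, Complex.conj_natCast, map_intCast]
    ring
  rw [ssum_sub, h2] at h1
  have h3 : ssum T (fun x => f x * conj (ψ x)) =
      ssum T (fun x => f x * conj (GG q δ Z ψ v₀ x)) +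
        (((q : ℂ) - δ) / q) * ssum Z (fun z => f z * conj (ψ z - ψ (z * v₀))) := by
    linear_combination h1
  rw [h3, h.card_cast]
  have := hb.card_Z_ne
  have h5 := h.sub_ne_zero hb.one_lt_q
  have := hb.q_ne
  field_simp
  ring

theorem index_centralizer (h : Torus q δ Z T s) (hb : Base q Z U) {x : C} (hx : x ∈ T)
    (hxZ : x ∉ Z) :
    ((Subgroup.centralizer ({x} : Set C)).index : ℂ) = q * (q + δ) := by
  have h1 : (Nat.card T : ℂ) * ((Subgroup.centralizer ({x} : Set C)).index : ℂ) =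
      Nat.card C := by
    rw [h.centralizer_eq hx hxZ]
    exact_mod_cast T.card_mul_index
  rw [h.card_cast, hb.card_C_cast] at h1
  have h2 := hb.card_Z_ne
  have h3 := h.sub_ne_zero hb.one_lt_q
  have h4 : (δ : ℂ) * δ = 1 := by exact_mod_cast h.sq_sign
  have h5 : ((Nat.card Z : ℂ) * (q - δ)) *
      (((Subgroup.centralizer ({x} : Set C)).index : ℂ) - q * (q + δ)) = 0 := by
    linear_combination h1 + (Nat.card Z : ℂ) * q * h4
  exact sub_eq_zero.1 ((mul_eq_zero.1 h5).resolve_left (mul_ne_zero h2 h3))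


/-- **Orthogonality.** A character of the principal 2-block is orthogonal to `R_T(θ)` for every
linear character `θ` of `T` which is nontrivial on an element of odd order. -/
theorem ssum_eq_zero (h : Torus q δ Z T s) (hb : Base q Z U) {μ : U →* ℂˣ}
    (hμ : ∃ v : U, μ v ≠ 1) {M : Ideal AlgInt} (hM : IsPModular 2 M) {ψ : IrrCharacter C}
    (hψ : ψ ∈ principalBlock M C) {v₀ : C} (hv₀ : v₀ ∈ U) (hv₀1 : v₀ ≠ 1) (θ : T →* ℂ) {y : C}
    (hy : y ∈ T) (hyo : Odd (orderOf y)) (hθ : lext T θ y ≠ 1) :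
    ssum T (fun x => lext T θ x * conj (GG q δ Z (ψ : C → ℂ) v₀ x)) = 0 := by
  classical
  have hMp := isPrime_of_isPModular hM
  have : Fact (Nat.Prime 2) := ⟨Nat.prime_two⟩
  have hcl : IsClassFunction C (ψ : C → ℂ) := Core.isIrr_isClassFunction ψ.2
  by_cases hA : ∃ z ∈ Z, Odd (orderOf z) ∧ lext T θ z ≠ 1
  · -- a central element of odd order at which `θ` is not trivial
    obtain ⟨z, hz, hzo, hzθ⟩ := hA
    have hN : (Subgroup.zpowers z).Normal := by
      refine ⟨fun n hn g => ?_⟩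
      obtain ⟨k, rfl⟩ := Subgroup.mem_zpowers_iff.1 hn
      have h1 : Commute g (z ^ k) := (show Commute g z from hb.Z_central z hz g).zpow_right k
      rw [h1.eq, mul_assoc, mul_inv_cancel, mul_one]
      exact hn
    have hNc : ¬ 2 ∣ Nat.card (Subgroup.zpowers z) := by
      rw [Nat.card_zpowers]
      exact fun h1 => (Nat.not_even_iff_odd.2 hzo) (even_iff_two_dvd.2 h1)
    have hψz : ∀ x, (ψ : C → ℂ) (z * x) = (ψ : C → ℂ) x := fun x =>
      Blocks.PrincipalInflate.apply_mul hM hNc hψ (Subgroup.mem_zpowers z) x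
    refine ssum_eq_zero_of_shift (h.Z_le hz) hzθ fun x hx => ?_
    have h1 : GG q δ Z (ψ : C → ℂ) v₀ (z * x) = GG q δ Z (ψ : C → ℂ) v₀ x := by
      by_cases hxZ : x ∈ Z
      · rw [GG_Z hxZ, GG_Z (mul_mem hz hxZ), hψz, mul_assoc, hψz]
      · rw [GG_notMem hxZ, GG_notMem (fun h1 => hxZ ((Z.mul_mem_cancel_left hz).1 h1)), hψz]
    rw [h1, lext_mul θ (h.Z_le hz) hx]
    ring
  · -- `θ` is trivial on the elements of odd order of `Z`
    push Not at hA
    have hyZ : y ∉ Z := fun h1 => hθ (hA y h1 hyo)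
    have hys := h.s_conj y hy
    set w := lext T θ y with hw
    have hw0 : w ≠ 0 := lext_ne_zero θ hy
    have hwn : w ^ orderOf y = 1 := by
      rw [hw, lext_pow θ hy, pow_orderOf_eq_one, lext_one]
    have hwc : w * conj w = 1 := lext_mul_conj θ hy
    have hws : w * lext T θ (s * y * s⁻¹) = 1 := by
      rw [hw, ← lext_mul θ hy hys]
      refine hA _ (h.s_norm y hy) ?_
      have h1 : (y * (s * y * s⁻¹)) ^ orderOf y = 1 := by
        rw [(show Commute y (s * y * s⁻¹) from h.comm _ hy _ hys).mul_pow, conj_pow,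
          pow_orderOf_eq_one]
        group
      exact Odd.of_dvd_nat hyo (orderOf_dvd_of_pow_eq_one h1)
    have hws' : lext T θ (s * y * s⁻¹) = conj w := by
      have h1 : w * (lext T θ (s * y * s⁻¹) - conj w) = 0 := by linear_combination hws - hwc
      exact sub_eq_zero.1 ((mul_eq_zero.1 h1).resolve_left hw0)
    have hw2 : w ^ 2 ≠ 1 := by
      intro h1
      apply hθ
      obtain ⟨k, hk⟩ := hyo
      rw [hk, pow_add, pow_mul, h1, one_pow, one_mul, pow_one] at hwn
      exact hwn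
    -- the generalized character `R_T(θ)` has norm one
    have hgen : IsGeneralizedCharacter C (R T hb μ (lext T θ)) := by
      refine h.isGeneralized_R hb ?_
      have h1 : (fun x : T => lext T θ x) = fun x : T => θ x := by
        funext x
        exact lext_apply θ x.2
      rw [h1]
      exact Brauer.isGeneralizedCharacter_of_isCharacter (Brauer.isCharacter_of_monoidHom θ)
    have hnorm : classInner (R T hb μ (lext T θ)) (R T hb μ (lext T θ)) = 1 := by
      rw [h.classInner_R_R hb hμ]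
      have h1 : ssum T (fun x => lext T θ x * conj (lext T θ x + lext T θ (s * x * s⁻¹))) =
          ssum T (fun _ => 1) + ssum T (fun x => lext T θ x * conj (lext T θ (s * x * s⁻¹))) := by
        rw [← ssum_add]
        refine ssum_congr fun x hx => ?_
        rw [map_add, mul_add, lext_mul_conj θ hx]
      have h2 : ssum T (fun x => lext T θ x * conj (lext T θ (s * x * s⁻¹))) = 0 := by
        refine ssum_eq_zero_of_shift hy hw2 fun x hx => ?_
        have h3 : s * (y * x) * s⁻¹ = (s * y * s⁻¹) * (s * x * s⁻¹) := by group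
        rw [h3, lext_mul θ hy hx, lext_mul θ hys (h.s_conj x hx), hws', map_mul,
          Complex.conj_conj]
        ring
      rw [h1, h2, ssum_const, add_zero, mul_one]
      exact inv_mul_cancel₀ Core.card_ne_zero_complex
    have hR : classInner (R T hb μ (lext T θ)) (ψ : C → ℂ) = 0 ∨
        ∃ σ : ℂ, σ ≠ 0 ∧ ∀ x, (ψ : C → ℂ) x = σ * R T hb μ (lext T θ) x := by
      rcases Core.isIrr_of_generalized hgen hnorm with h1 | h1
      · by_cases h2 : R T hb μ (lext T θ) = (ψ : C → ℂ)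
        · right
          exact ⟨1, one_ne_zero, fun x => by rw [one_mul, h2]⟩
        · left
          exact Core.classInner_irr_ne h1 ψ.2 h2
      · by_cases h2 : -R T hb μ (lext T θ) = (ψ : C → ℂ)
        · right
          refine ⟨-1, by norm_num, fun x => ?_⟩
          rw [← h2, Pi.neg_apply]
          ring
        · left
          have h3 := Core.classInner_irr_ne h1 ψ.2 h2
          rw [Core.classInner_neg_left] at h3
          exact neg_eq_zero.1 h3
    rcases hR with hR | ⟨σ, hσ, hR⟩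
    · rw [h.classInner_R_GG hb hμ _ hcl hv₀ hv₀1] at hR
      exact (mul_eq_zero.1 hR).resolve_left (inv_ne_zero Core.card_ne_zero_complex)
    · -- central characters
      exfalso
      have h1 := hψ y
      have hδ2 : (δ : ℂ) * δ = 1 := by exact_mod_cast h.sq_sign
      have hq1 : (1 : ℂ) + δ * q ≠ 0 := by
        intro h2
        apply h.add_ne_zero hb.one_lt_q
        linear_combination (δ : ℂ) * h2 - (q : ℂ) * hδ2
      have h2 : centralChar (fun _ : C => (1 : ℂ)) y = q * (q + δ) := by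
        unfold centralChar
        rw [h.index_centralizer hb hy hyZ]
        ring
      have h3 : centralChar (ψ : C → ℂ) y = δ * q * (w + conj w) := by
        unfold centralChar
        rw [h.index_centralizer hb hy hyZ, hR y, hR 1, h.R_Z hb _ (one_mem Z),
          h.R_T hb _ hy hyZ, lext_one, hws', ← hw,
          div_eq_iff (mul_ne_zero hσ (mul_ne_zero hq1 one_ne_zero))]
        linear_combination (-(σ * (q : ℂ) ^ 2 * (w + conj w))) * hδ2
      rw [h2, h3] at h1
      have h4 : MemLocalIdeal M ((((q : ℤ) * (q + δ) : ℤ) : ℂ)) := by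
        rw [memLocalIdeal_intCast_iff hM]
        have h5 : Even ((q : ℤ) + δ) := by
          have h6 : Odd (q : ℤ) := by exact_mod_cast hb.odd_q
          rcases h.sign with h7 | h7 <;> rw [h7]
          · exact h6.add_odd odd_one
          · exact h6.add_odd (by decide)
        exact (even_iff_two_dvd.1 h5).mul_left _
      push_cast at h4
      have h5 := memLocalIdeal_sub h4 h1
      have hwR : MemLocalRing M w :=
        memLocalRing_of_isIntegral (IsIntegral.of_pow (orderOf_pos y)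
          (by rw [hwn]; exact isIntegral_one))
      have hq : MemLocalRing M ((q : ℂ)⁻¹) := memLocalRing_inv_natCast hM
        (fun h6 => (Nat.not_even_iff_odd.2 hb.odd_q) (even_iff_two_dvd.2 h6))
      have h6 : MemLocalIdeal M (w ^ 2 + 1) := by
        have h7 := memLocalIdeal_mul_left (memLocalRing_mul hq (memLocalRing_mul hwR
          (memLocalRing_intCast δ))) h5
        convert h7 using 1
        have hq0 := hb.q_ne
        field_simp
        linear_combination (-(w ^ 2 + w * conj w)) * hδ2 - hwc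
      have h7 : MemLocalIdeal M (w ^ 2 - 1) := by
        have h8 := memLocalIdeal_sub h6 (memLocalIdeal_p hM)
        convert h8 using 1
        push_cast
        ring
      have hint : IsIntegral ℤ (w ^ 2) := (IsIntegral.of_pow (orderOf_pos y)
          (by rw [hwn]; exact isIntegral_one)).pow 2
      have h8 : (⟨w ^ 2, hint⟩ : AlgInt) - 1 ∈ M := by
        rw [← memLocalIdeal_algInt_iff]
        exact h7
      have hyo' : ¬ 2 ∣ orderOf y :=
        fun h6 => (Nat.not_even_iff_odd.2 hyo) (even_iff_two_dvd.2 h6)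
      have h9 := Blocks.Residue.eq_of_sub_mem hM (ε₁ := ⟨w ^ 2, hint⟩) (ε₂ := 1)
        ⟨orderOf y, hyo', by
          change (w ^ 2) ^ orderOf y = 1
          rw [← pow_mul, mul_comm, pow_mul, hwn, one_pow]⟩
        ⟨1, by norm_num, by simp⟩ h8
      exact hw2 (congrArg Subtype.val h9)

/-- The values of a character of the principal 2-block on the elements of odd order of `T`. -/
theorem GG_eq (h : Torus q δ Z T s) (hb : Base q Z U)
    {M : Ideal AlgInt} (hM : IsPModular 2 M) {ψ : IrrCharacter C}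
    (hψ : ψ ∈ principalBlock M C) {v₀ : C} (hv₀ : v₀ ∈ U) (hv₀1 : v₀ ≠ 1) {y x : C}
    (hy : y ∈ T) (hyo : Odd (orderOf y)) (hx : x ∈ T) :
    GG q δ Z (ψ : C → ℂ) v₀ (y * x) = GG q δ Z (ψ : C → ℂ) v₀ x := by
  obtain ⟨μ, hμ⟩ := hb.exists_mu
  exact eq_of_fourier h.comm hy
    (fun θ hθ => h.ssum_eq_zero hb hμ hM hψ hv₀ hv₀1 θ hy hyo hθ) hx

/-- A function with the values `a`, `b` through `R_T(1)`, `R_T'(1)`: the modified value on `Z`. -/
theorem GG_of_eval (h : Torus q δ Z T s) (hb : Base q Z U) {ψ : C → ℂ} {v₀ : C} {a b : ℂ} {z : C}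
    (hz : z ∈ Z) (h1 : ψ z = ((1 + δ * q) * a + (1 - δ * q) * b) / 2)
    (h2 : ψ (z * v₀) = (a + b) / 2) : GG q δ Z ψ v₀ z = a := by
  rw [GG_Z hz, h1, h2]
  have hq := hb.q_ne
  have hδ2 : (δ : ℂ) * δ = 1 := by exact_mod_cast h.sq_sign
  field_simp
  linear_combination ((a - b) * q) * hδ2

/-- The values of a function at `z` from the modified values for the two tori. -/
theorem eq_of_GG (h : Torus q δ Z T s) (hb : Base q Z U) {ψ : C → ℂ} {v₀ : C} {z : C}
    (hz : z ∈ Z) : ψ z = ((1 + δ * q) * GG q δ Z ψ v₀ z + (1 - δ * q) * GG q (-δ) Z ψ v₀ z) / 2 ∧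
      ψ (z * v₀) = (GG q δ Z ψ v₀ z + GG q (-δ) Z ψ v₀ z) / 2 := by
  rw [GG_Z hz, GG_Z hz]
  have hq := hb.q_ne
  have hδ2 : (δ : ℂ) * δ = 1 := by exact_mod_cast h.sq_sign
  push_cast
  constructor
  · field_simp
    linear_combination (-2 * (q : ℂ) * (ψ z - ψ (z * v₀))) * hδ2
  · field_simp
    ring

end Torus

section Eval

variable {C : Type*} [Group C] [Fintype C] {t : C} {q : ℕ} {ε : ℤ} {Z T T' U : Subgroup C}
  {s s' u : C}

/-- The function `1/2 (a R_T(1) + b R_T'(1))`. -/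
noncomputable def ev (T T' : Subgroup C) (hb : Base q Z U) (μ : U →* ℂˣ) (a b : ℂ) (y : C) : ℂ :=
  (a * Torus.R T hb μ (fun _ => 1) y + b * Torus.R T' hb μ (fun _ => 1) y) / 2

theorem ev_isClassFunction (hb : Base q Z U) (μ : U →* ℂˣ) (a b : ℂ) :
    IsClassFunction C (ev T T' hb μ a b) := by
  intro g k
  unfold ev
  rw [Torus.R_isClassFunction hb _ g k, Torus.R_isClassFunction hb _ g k]

theorem ev_Z (h : CHyp t q ε Z T T' U s s' u) (μ : U →* ℂˣ) (a b : ℂ) {y : C} (hy : y ∈ Z) :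
    ev T T' h.base μ a b y = ((1 + ε * q) * a + (1 - ε * q) * b) / 2 := by
  unfold ev
  rw [h.torus.R_Z h.base _ hy, h.torus'.R_Z h.base _ hy]
  push_cast
  ring

theorem ev_ZU (h : CHyp t q ε Z T T' U s s' u) {μ : U →* ℂˣ} (hμ : ∃ v : U, μ v ≠ 1) (a b : ℂ)
    {y v : C} (hy : y ∈ Z) (hv : v ∈ U) (hv1 : v ≠ 1) :
    ev T T' h.base μ a b (y * v) = (a + b) / 2 := by
  unfold ev
  rw [h.torus.R_ZU h.base hμ _ hy hv hv1, h.torus'.R_ZU h.base hμ _ hy hv hv1]
  ring

theorem CHyp.eps_ne (h : CHyp t q ε Z T T' U s s' u) : ε ≠ -ε := by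
  rcases h.eps with h1 | h1 <;> rw [h1] <;> decide

theorem ev_T (h : CHyp t q ε Z T T' U s s' u) (μ : U →* ℂˣ) (a b : ℂ) {y : C} (hy : y ∈ T)
    (hyZ : y ∉ Z) : ev T T' h.base μ a b y = a := by
  unfold ev
  rw [h.torus.R_T h.base _ hy hyZ, h.torus'.R_T' h.torus h.eps_ne h.base _ hy hyZ]
  ring

theorem ev_T' (h : CHyp t q ε Z T T' U s s' u) (μ : U →* ℂˣ) (a b : ℂ) {y : C} (hy : y ∈ T')
    (hyZ : y ∉ Z) : ev T T' h.base μ a b y = b := by
  unfold ev
  rw [h.torus'.R_T h.base _ hy hyZ, h.torus.R_T' h.torus' h.eps_ne.symm h.base _ hy hyZ]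
  ring

/-- **The principal 2-block of `C` on the elements of odd order.** -/
theorem CHyp.exists_eval (h : CHyp t q ε Z T T' U s s' u) {M : Ideal AlgInt} (hM : IsPModular 2 M)
    {ψ : IrrCharacter C} (hψ : ψ ∈ principalBlock M C) {μ : U →* ℂˣ} (hμ : ∃ v : U, μ v ≠ 1) :
    ∃ a b : ℂ, ∀ y : C, Odd (orderOf y) → (ψ : C → ℂ) y = ev T T' h.base μ a b y := by
  classical
  have : Fact (Nat.Prime 2) := ⟨Nat.prime_two⟩
  obtain ⟨v₀, hv₀, hv₀1⟩ := h.base.exists_ne_one
  have hcl : IsClassFunction C (ψ : C → ℂ) := Core.isIrr_isClassFunction ψ.2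
  set G := Torus.GG q ε Z (ψ : C → ℂ) v₀ with hG
  set G' := Torus.GG q (-ε) Z (ψ : C → ℂ) v₀ with hG'
  have hT : ∀ y ∈ T, Odd (orderOf y) → G y = G 1 := fun y hy hyo => by
    have h1 := h.torus.GG_eq h.base hM hψ hv₀ hv₀1 hy hyo (one_mem T)
    rwa [mul_one] at h1
  have hT' : ∀ y ∈ T', Odd (orderOf y) → G' y = G' 1 := fun y hy hyo => by
    have h1 := h.torus'.GG_eq h.base hM hψ hv₀ hv₀1 hy hyo (one_mem T')
    rwa [mul_one] at h1
  have hZ : ∀ y ∈ Z, Odd (orderOf y) → (ψ : C → ℂ) y = ev T T' h.base μ (G 1) (G' 1) y ∧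
      (ψ : C → ℂ) (y * v₀) = ev T T' h.base μ (G 1) (G' 1) (y * v₀) := by
    intro y hy hyo
    rw [ev_Z h μ _ _ hy, ev_ZU h hμ _ _ hy hv₀ hv₀1, ← hT y (h.Z_le_T hy) hyo,
      ← hT' y (h.Z_le_T' hy) hyo]
    exact h.torus.eq_of_GG h.base hy
  refine ⟨G 1, G' 1, fun y hyo => ?_⟩
  obtain ⟨g, hg⟩ := h.exhaust y
  have hord : orderOf (g * y * g⁻¹) = orderOf y := (MulAut.conj g).orderOf_eq y
  rw [← hcl y g, ← ev_isClassFunction h.base μ (G 1) (G' 1) y g]
  rw [← hord] at hyo
  generalize g * y * g⁻¹ = x at hg hyo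
  rcases hg with hx | hx | ⟨z, hz, v, hv, hx⟩
  · by_cases hxZ : x ∈ Z
    · exact (hZ x hxZ hyo).1
    · rw [ev_T h μ _ _ hx hxZ, ← hT x hx hyo, hG, Torus.GG_notMem hxZ]
  · by_cases hxZ : x ∈ Z
    · exact (hZ x hxZ hyo).1
    · rw [ev_T' h μ _ _ hx hxZ, ← hT' x hx hyo, hG', Torus.GG_notMem hxZ]
  · have hzo : Odd (orderOf z) := by
      have h1 : z ^ orderOf x * v ^ orderOf x = 1 := by
        rw [← (show Commute z v from (h.Z_central z hz v).symm).mul_pow, ← hx, pow_orderOf_eq_one]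
      have h2 : z ^ orderOf x = 1 := by
        refine h.base.eq_one_of_mem (pow_mem hz _) ?_
        rw [eq_inv_of_mul_eq_one_left h1]
        exact inv_mem (pow_mem hv _)
      exact Odd.of_dvd_nat hyo (orderOf_dvd_of_pow_eq_one h2)
    subst hx
    by_cases hv1 : v = 1
    · rw [hv1, mul_one]
      exact (hZ z hz hzo).1
    · obtain ⟨c, hc⟩ := h.fus_U v₀ hv₀ v hv hv₀1 hv1
      have h1 : z * v = c * (z * v₀) * c⁻¹ := by
        rw [← hc, ← mul_assoc c, h.Z_central z hz c]
        group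
      rw [h1, hcl, ev_isClassFunction h.base μ (G 1) (G' 1)]
      exact (hZ z hz hzo).2

end Eval

end Cfsg.Agent.Classification.InvCent
end

-- part: Classification/InvCent/BlockEval
section
/-!
# Characters of the principal 2-block for an involution centralizer with quotient `C`

`π : C_G(t) →* C` onto with odd kernel (`RTwo.General.Hyp t z π`), `C` of type `GL₂(q)/Z₀` or
`GU₂(q)/Z₀` with central involution `z` (`CHyp`), `X` (up to sign) a character in the principal 2-block.

* `section_eval`: for a 2-element `ζ ≠ 1` of `Z` there are `a`, `b` with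
  `X x = 1/2 (a R_T(1) y + b R_T'(1) y)` if `π x = ζ y`, `y` of odd order;
* `blockEval`: the case `ζ = z`;
* `GG_eq`: with `F` the class function of `C` given by `X`, the modified values `GG F` on `T` (and
  `T'`) are constant on the cosets of the subgroup of the elements of odd order;
* `classInner_ind_R`: `⟨Ind (R_T(f) ∘ π), X⟩ = |T|⁻¹ ∑ f (GG F)^-`;
* `exists_functions`: all this together.
-/

set_option autoImplicit false
set_option linter.unusedSectionVars false

open Cfsg
open scoped ComplexConjugate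

namespace Cfsg.Agent.Classification.InvCent

open Cfsg.Agent.Characters Cfsg.Agent.Blocks.Local Cfsg.Agent.Classification.RTwo.General
  Cfsg.Agent.Classification.BGBlockB0 Cfsg.Agent.Classification.QDW

universe w v

section Alg

variable {C : Type*} [Group C] {z : C} {q : ℕ} {ε : ℤ} {Z T T' U : Subgroup C} {s s' u : C}

theorem CHyp.z_sq (h : CHyp z q ε Z T T' U s s' u) : z * z = 1 := by
  have h1 := pow_orderOf_eq_one z
  rwa [h.orderOf_t, sq] at h1

theorem CHyp.z_ne_one (h : CHyp z q ε Z T T' U s s' u) : z ≠ 1 := by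
  intro h1
  have h2 := h.orderOf_t
  rw [h1, orderOf_one] at h2
  exact absurd h2 (by norm_num)

theorem CHyp.u_notMem (h : CHyp z q ε Z T T' U s s' u) : u ∉ Z := by
  intro h1
  have h2 := h.s_u
  rw [h.Z_central u h1 s, mul_assoc, mul_inv_cancel, mul_one] at h2
  exact h.z_ne_one (mul_right_cancel (a := z) (b := u) (c := 1) (by rw [one_mul]; exact h2.symm))

/-- The involution `z` is a power of every 2-element `≠ 1` of `Z`. -/
theorem CHyp.mem_zpowers (h : CHyp z q ε Z T T' U s s' u) {ζ : C} (hζ : ζ ∈ Z) (hζ1 : ζ ≠ 1)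
    {m : ℕ} (hm : ζ ^ 2 ^ m = 1) : z ∈ Subgroup.zpowers ζ := by
  obtain ⟨k, -, hk⟩ := (Nat.dvd_prime_pow Nat.prime_two).1 (orderOf_dvd_of_pow_eq_one hm)
  have hk0 : k ≠ 0 := by
    rintro rfl
    rw [pow_zero, orderOf_eq_one_iff] at hk
    exact hζ1 hk
  obtain ⟨l, rfl⟩ := Nat.exists_eq_succ_of_ne_zero hk0
  set w := ζ ^ 2 ^ l with hw
  have hwZ : w ∈ Z := pow_mem hζ _
  have hw1 : w ≠ 1 := by
    intro h1
    have h2 := orderOf_dvd_of_pow_eq_one h1
    rw [hk] at h2
    have h3 := Nat.le_of_dvd (by positivity) h2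
    have h4 : 2 ^ l < 2 ^ (l + 1) := Nat.pow_lt_pow_right (by norm_num) (by omega)
    omega
  have hw2 : w * w = 1 := by
    rw [← sq, hw, ← pow_mul, ← pow_succ, ← hk, pow_orderOf_eq_one]
  have hwz : w = z := by
    rcases h.invol_T w (h.Z_le_T hwZ) hw2 with h1 | h1 | h1 | h1
    · exact absurd h1 hw1
    · exact h1
    · exact absurd (h1 ▸ hwZ) h.u_notMem
    · refine absurd ?_ h.u_notMem
      have h2 : u = z⁻¹ * w := by rw [h1]; group
      rw [h2]
      exact mul_mem (inv_mem h.t_mem) hwZ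
  rw [← hwz, hw]
  exact pow_mem (Subgroup.mem_zpowers ζ) _

/-- An involution which is a power of `ζ` is a power of `ζ y`, `y` of odd order commuting
with `ζ`. -/
theorem mem_zpowers_mul {ζ y : C} (hz : z * z = 1) (h1 : z ∈ Subgroup.zpowers ζ)
    (hc : Commute ζ y) (hy : Odd (orderOf y)) : z ∈ Subgroup.zpowers (ζ * y) := by
  obtain ⟨k, hk⟩ := Subgroup.mem_zpowers_iff.1 h1
  refine Subgroup.mem_zpowers_iff.2 ⟨k * orderOf y, ?_⟩
  have h2 : z ^ orderOf y = z := by
    obtain ⟨l, hl⟩ := hy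
    rw [hl, pow_succ, pow_mul, sq, hz, one_pow, one_mul]
  rw [mul_comm k, zpow_mul, zpow_natCast, hc.mul_pow, pow_orderOf_eq_one, mul_one, ← zpow_natCast,
    ← zpow_mul, mul_comm, zpow_mul, hk, zpow_natCast, h2]

end Alg

section Lift

variable {G : Type w} [Group G] [Finite G] {C : Type v} [Group C] {t : G} {z : C}
  {π : (Subgroup.centralizer ({t} : Set G)) →* C}

theorem centralizer_le {a : G} (ha : t ∈ Subgroup.zpowers a) :
    Subgroup.centralizer ({a} : Set G) ≤ Subgroup.centralizer ({t} : Set G) := by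
  intro y hy
  rw [Subgroup.mem_centralizer_singleton_iff] at hy ⊢
  obtain ⟨k, hk⟩ := Subgroup.mem_zpowers_iff.1 ha
  have hy' : Commute y a := hy
  rw [← hk]
  exact (hy'.zpow_right k).eq

/-- The elements commuting with `π a`, `a` a 2-element, lift to elements commuting with `a`. -/
theorem exists_lift (h : Hyp t z π) {a : Subgroup.centralizer ({t} : Set G)} {m : ℕ}
    (ha : a ^ 2 ^ m = 1) {c : C} (hc : Commute (π a) c) :
    ∃ x : Subgroup.centralizer ({t} : Set G), π x = c ∧ Commute a x := by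
  obtain ⟨x, rfl⟩ := h.surj c
  have h1 : π (x * a * x⁻¹) = π a := by
    rw [map_mul, map_mul, map_inv, ← hc.eq]
    group
  obtain ⟨k, hk, hka⟩ := CoreConst.exists_conj_ker π h.odd_ker (x * a * x⁻¹) a m
    (by rw [conj_pow, ha]; group) ha h1
  refine ⟨k * x, by rw [map_mul, hk, one_mul], ?_⟩
  have h2 : k * x * a * (k * x)⁻¹ = a := by
    calc k * x * a * (k * x)⁻¹ = k * (x * a * x⁻¹) * k⁻¹ := by group
      _ = a := hka
  have h3 : k * x * a = a * (k * x) := by
    rw [mul_inv_eq_iff_eq_mul] at h2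
    exact h2
  exact h3.symm

/-- The same with an element of odd order. -/
theorem exists_lift_odd (h : Hyp t z π) {a : Subgroup.centralizer ({t} : Set G)} {m : ℕ}
    (ha : a ^ 2 ^ m = 1) {c : C} (hc : Commute (π a) c) (hco : Odd (orderOf c)) :
    ∃ x : Subgroup.centralizer ({t} : Set G), π x = c ∧ Commute a x ∧ Odd (orderOf x) := by
  obtain ⟨x, hx, hax⟩ := exists_lift h ha hc
  refine ⟨x, hx, hax, ?_⟩
  have h1 : π (x ^ orderOf c) = 1 := by rw [map_pow, hx, pow_orderOf_eq_one]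
  have h2 : (x ^ orderOf c) ^ Nat.card π.ker = 1 :=
    congrArg Subtype.val (pow_card_eq_one' (x := (⟨x ^ orderOf c, h1⟩ : π.ker)))
  rw [← pow_mul] at h2
  exact Odd.of_dvd_nat (hco.mul h.odd_ker) (orderOf_dvd_of_pow_eq_one h2)

end Lift

section Eval

variable {G : Type w} [Group G] [Finite G] {C : Type v} [Group C] [Fintype C] {t : G} {z : C}
  {π : (Subgroup.centralizer ({t} : Set G)) →* C} {q : ℕ} {ε : ℤ} {Z T T' U : Subgroup C}
  {s s' u : C}

/-- **The section of a 2-element `ζ` of `Z`.** -/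
theorem irr_section_eval (h : Hyp t z π) (hC : CHyp z q ε Z T T' U s s' u)
    {M : Ideal AlgInt} (hM : IsPModular 2 M) {X : IrrCharacter G} (hX : X ∈ principalBlock M G)
    {μ : U →* ℂˣ} (hμ : ∃ v : U, μ v ≠ 1) {ζ : C} (hζ : ζ ∈ Z) (hζ1 : ζ ≠ 1) {m : ℕ}
    (hm : ζ ^ 2 ^ m = 1) :
    ∃ a b : ℂ, ∀ (x : Subgroup.centralizer ({t} : Set G)) (y : C), π x = ζ * y →
      Odd (orderOf y) → (X : G → ℂ) x = ev T T' hC.base μ a b y := by
  classical
  have : Fact (Nat.Prime 2) := ⟨Nat.prime_two⟩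
  -- a 2-element above `ζ`
  obtain ⟨x₀, hx₀⟩ := h.surj ζ
  obtain ⟨a, -, -, hpa, -, ham, -⟩ := exists_two_part h x₀ (m := m) (by rw [hx₀, hm])
  rw [hx₀] at hpa
  have hza : z ∈ Subgroup.zpowers (π a) := by rw [hpa]; exact hC.mem_zpowers hζ hζ1 hm
  have hta : t ∈ Subgroup.zpowers (a : G) := mem_zpowers_of_map h hza
  have hle := centralizer_le hta
  -- the centralizer of `a`
  let H : Subgroup G := Subgroup.centralizer ({(a : G)} : Set G)
  let π' : H →* C := π.comp (Subgroup.inclusion hle)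
  have hπ' : Function.Surjective π' := by
    intro c
    obtain ⟨x, hx, hax⟩ := exists_lift h ham (c := c)
      (by rw [hpa]; exact (hC.Z_central ζ hζ c).symm)
    refine ⟨⟨(x : G), ?_⟩, ?_⟩
    · rw [Subgroup.mem_centralizer_singleton_iff]
      exact (congrArg Subtype.val hax.eq).symm
    · rw [← hx]
      rfl
  have hker : ¬ 2 ∣ Nat.card π'.ker := by
    have h1 : Nat.card π'.ker ∣ Nat.card π.ker := by
      refine Subgroup.card_dvd_of_injective
        (((Subgroup.inclusion hle).comp π'.ker.subtype).codRestrict π.ker (fun x => x.2)) ?_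
      intro x y hxy
      have h1 : Subgroup.inclusion hle x.1 = Subgroup.inclusion hle y.1 :=
        congrArg Subtype.val hxy
      exact Subtype.ext (Subgroup.inclusion_injective hle h1)
    exact (Odd.of_dvd_nat h.odd_ker h1).not_two_dvd_nat
  have hord : ∃ k : ℕ, orderOf (a : G) = 2 ^ k := by
    have h1 : (a : G) ^ 2 ^ m = 1 := congrArg Subtype.val ham
    obtain ⟨l, -, hl⟩ := (Nat.dvd_prime_pow Nat.prime_two).1 (orderOf_dvd_of_pow_eq_one h1)
    exact ⟨l, hl⟩
  let _ : Fintype H := Fintype.ofFinite H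
  have : Finite (IrrCharacter H) := Core.finite_irr
  let _ : Fintype (IrrCharacter H) := Fintype.ofFinite _
  -- the constants
  have hex : ∀ ξ : IrrCharacter H, ∃ ab : ℂ × ℂ, ξ ∈ principalBlock M H → ∀ y : H,
      Odd (orderOf y) → (ξ : H → ℂ) y = ev T T' hC.base μ ab.1 ab.2 (π' y) := by
    intro ξ
    by_cases hξ : ξ ∈ principalBlock M H
    · obtain ⟨ξ', hξ', he⟩ := Blocks.PrincipalInflate.exists_comp hM hπ' hker hξ
      obtain ⟨a, b, hab⟩ := hC.exists_eval hM hξ' hμ
      refine ⟨(a, b), fun _ y hy => ?_⟩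
      rw [he]
      exact hab (π' y) (Odd.of_dvd_nat hy (orderOf_map_dvd π' y))
    · exact ⟨0, fun h1 => absurd h1 hξ⟩
  choose ab hab using hex
  refine ⟨∑ ξ : IrrCharacter H with ξ ∈ principalBlock M H,
      classInner (fun c : H => (X : G → ℂ) ((a : G) * (c : G))) (ξ : H → ℂ) * (ab ξ).1,
    ∑ ξ : IrrCharacter H with ξ ∈ principalBlock M H,
      classInner (fun c : H => (X : G → ℂ) ((a : G) * (c : G))) (ξ : H → ℂ) * (ab ξ).2,
    fun x y hx hy => ?_⟩
  obtain ⟨y', hy', hay', hyo⟩ := exists_lift_odd h ham (c := y)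
    (by rw [hpa]; exact (hC.Z_central ζ hζ y).symm) hy
  have hyH : (y' : G) ∈ H := by
    rw [Subgroup.mem_centralizer_singleton_iff]
    exact (congrArg Subtype.val hay'.eq).symm
  have hπy : π' ⟨y', hyH⟩ = y := by
    rw [← hy']
    rfl
  have hyo' : Odd (orderOf (⟨y', hyH⟩ : H)) := by
    rw [Subgroup.orderOf_mk, Subgroup.orderOf_coe]
    exact hyo
  have h1 : (X : G → ℂ) x = (X : G → ℂ) ((a : G) * (y' : G)) := by
    refine CoreConst.irr_eq_of_map h M hM X hX x (a * y') ?_ (by rw [hx, map_mul, hpa, hy'])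
    rw [hx]
    exact mem_zpowers_mul hC.z_sq (hC.mem_zpowers hζ hζ1 hm) (hC.Z_central ζ hζ y).symm hy
  have h2 := Blocks.PrincipalInflate.section_eq hM (a : G) hord (H := H) rfl hX
    (⟨y', hyH⟩ : H) hyo'.not_two_dvd_nat
  rw [h1, h2, Finset.sum_congr rfl (fun ξ hξ => by
    rw [hab ξ (Finset.mem_filter.1 hξ).2 _ hyo', hπy])]
  unfold ev
  rw [Finset.sum_mul, Finset.sum_mul, ← Finset.sum_add_distrib, Finset.sum_div]
  refine Finset.sum_congr rfl fun ξ _ => ?_
  ring

/-- The section of a 2-element `ζ` of `Z`, up to sign. -/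
theorem section_eval (h : Hyp t z π) (hC : CHyp z q ε Z T T' U s s' u)
    {M : Ideal AlgInt} (hM : IsPModular 2 M) {X : G → ℂ} (hX : InB (principalBlock M G) X)
    {μ : U →* ℂˣ} (hμ : ∃ v : U, μ v ≠ 1) {ζ : C} (hζ : ζ ∈ Z) (hζ1 : ζ ≠ 1) {m : ℕ}
    (hm : ζ ^ 2 ^ m = 1) :
    ∃ a b : ℂ, ∀ (x : Subgroup.centralizer ({t} : Set G)) (y : C), π x = ζ * y →
      Odd (orderOf y) → X x = ev T T' hC.base μ a b y := by
  obtain ⟨χ, hχ, rfl | rfl⟩ := hX
  · exact irr_section_eval h hC hM hχ hμ hζ hζ1 hm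
  · obtain ⟨a, b, hab⟩ := irr_section_eval h hC hM hχ hμ hζ hζ1 hm
    refine ⟨-a, -b, fun x y hx hy => ?_⟩
    rw [Pi.neg_apply, hab x y hx hy]
    unfold ev
    ring

/-- **The characters of the principal 2-block on the 2-section of `t`.** -/
theorem blockEval (h : Hyp t z π) (hC : CHyp z q ε Z T T' U s s' u)
    {M : Ideal AlgInt} (hM : IsPModular 2 M) {X : G → ℂ} (hX : InB (principalBlock M G) X)
    {μ : U →* ℂˣ} (hμ : ∃ v : U, μ v ≠ 1) :
    ∃ a b : ℂ, ∀ (x : Subgroup.centralizer ({t} : Set G)) (y : C), π x = z * y →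
      Odd (orderOf y) → X x = (a * Torus.R T hC.base μ (fun _ => 1) y +
        b * Torus.R T' hC.base μ (fun _ => 1) y) / 2 :=
  section_eval h hC hM hX hμ hC.t_mem hC.z_ne_one (m := 1)
    (by rw [pow_one, sq]; exact hC.z_sq)

/-- A character of the principal 2-block at `a * y`, `a` a 2-element having `t` as a power, `y` of
odd order commuting with `a`, whose image commutes with the image of the centralizer of `a`. -/
theorem irr_mul_odd (h : Hyp t z π) {M : Ideal AlgInt} (hM : IsPModular 2 M)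
    {X : IrrCharacter G} (hX : X ∈ principalBlock M G)
    {a y : Subgroup.centralizer ({t} : Set G)} {m : ℕ} (ham : a ^ 2 ^ m = 1)
    (hta : t ∈ Subgroup.zpowers (a : G)) (hay : Commute a y) (hyo : Odd (orderOf y))
    (hcent : ∀ c : Subgroup.centralizer ({t} : Set G), Commute a c → Commute (π c) (π y)) :
    (X : G → ℂ) ((a : G) * (y : G)) = (X : G → ℂ) a := by
  have : Fact (Nat.Prime 2) := ⟨Nat.prime_two⟩
  set N0 : Subgroup (Subgroup.centralizer ({t} : Set G)) :=
    (Subgroup.zpowers (π y)).comap π ⊓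
      Subgroup.centralizer ({a} : Set (Subgroup.centralizer ({t} : Set G))) with hN0
  set N : Subgroup G := N0.map (Subgroup.centralizer ({t} : Set G)).subtype with hN
  have hmem : ∀ x : G, x ∈ N ↔ ∃ w : Subgroup.centralizer ({t} : Set G),
      π w ∈ Subgroup.zpowers (π y) ∧ Commute a w ∧ (w : G) = x := by
    intro x
    rw [hN, Subgroup.mem_map]
    constructor
    · rintro ⟨w, hw, rfl⟩
      rw [hN0, Subgroup.mem_inf, Subgroup.mem_comap, Subgroup.mem_centralizer_singleton_iff] at hw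
      exact ⟨w, hw.1, Commute.symm hw.2, rfl⟩
    · rintro ⟨w, h1, h2, rfl⟩
      refine ⟨w, ?_, rfl⟩
      rw [hN0, Subgroup.mem_inf, Subgroup.mem_comap, Subgroup.mem_centralizer_singleton_iff]
      exact ⟨h1, h2.symm⟩
  have h1 := Blocks.PrincipalConstGen.irr_const 2 M hM (u := (a : G)) ?_ N ?_ ?_ ?_
    (y := (1 : G)) (n := (y : G)) (Commute.one_right _) (by rw [orderOf_one]; norm_num) ?_ X hX
  · rwa [mul_one] at h1
  · have h1 : (a : G) ^ 2 ^ m = 1 := congrArg Subtype.val ham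
    obtain ⟨l, -, hl⟩ := (Nat.dvd_prime_pow Nat.prime_two).1 (orderOf_dvd_of_pow_eq_one h1)
    exact ⟨l, hl⟩
  · intro x hx
    obtain ⟨w, -, hw, rfl⟩ := (hmem x).1 hx
    exact congrArg Subtype.val hw.eq
  · intro c hc x hx
    obtain ⟨w, hw1, hw2, rfl⟩ := (hmem x).1 hx
    have hcC : c ∈ Subgroup.centralizer ({t} : Set G) := by
      refine centralizer_le hta ?_
      rw [Subgroup.mem_centralizer_singleton_iff]
      exact hc.symm.eq
    have hc' : Commute a (⟨c, hcC⟩ : Subgroup.centralizer ({t} : Set G)) := Subtype.ext hc.eq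
    refine (hmem _).2 ⟨⟨c, hcC⟩ * w * (⟨c, hcC⟩)⁻¹, ?_, (hc'.mul_right hw2).mul_right hc'.inv_right,
      rfl⟩
    obtain ⟨k, hk⟩ := Subgroup.mem_zpowers_iff.1 hw1
    have h2 : Commute (π ⟨c, hcC⟩) (π w) := by
      rw [← hk]
      exact (hcent _ hc').zpow_right k
    rw [map_mul, map_mul, map_inv, h2.eq, mul_assoc, mul_inv_cancel, mul_one]
    exact hw1
  · rw [Nat.coprime_two_right]
    have h1 : Nat.card N = Nat.card N0 :=
      Nat.card_congr (N0.equivMapOfInjective _ (Subgroup.subtype_injective _)).toEquiv.symm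
    have h2 : Nat.card ((Subgroup.zpowers (π y)).comap π) =
        Nat.card π.ker * Nat.card (Subgroup.zpowers (π y)) :=
      Blocks.PrincipalInflate.card_preimage π h.surj (Subgroup.zpowers (π y) : Set C)
    rw [h1]
    refine Odd.of_dvd_nat (n := Nat.card ((Subgroup.zpowers (π y)).comap π)) ?_
      (Subgroup.card_dvd_of_le inf_le_left)
    rw [h2, Nat.card_zpowers]
    exact h.odd_ker.mul (Odd.of_dvd_nat hyo (orderOf_map_dvd π y))
  · exact (hmem _).2 ⟨y, Subgroup.mem_zpowers _, hay, rfl⟩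

/-- The same for `F`, the class function of `C` given by `X`, on a torus. -/
theorem F_mul_odd (h : Hyp t z π) {M : Ideal AlgInt} (hM : IsPModular 2 M)
    {X : G → ℂ} (hX : InB (principalBlock M G) X) {F : C → ℂ}
    (hF : ∀ x : Subgroup.centralizer ({t} : Set G), z ∈ Subgroup.zpowers (π x) → X x = F (π x))
    {δ : ℤ} {T₁ : Subgroup C} {s₁ : C} (hT : Torus q δ Z T₁ s₁) {x y : C} (hx : x ∈ T₁)
    (hxZ : x ∉ Z) {m : ℕ} (hxm : x ^ 2 ^ m = 1) (hzx : z ∈ Subgroup.zpowers x) (hy : y ∈ T₁)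
    (hyo : Odd (orderOf y)) : F (x * y) = F x := by
  obtain ⟨x₀, hx₀⟩ := h.surj x
  obtain ⟨a, -, -, hpa, -, ham, -⟩ := exists_two_part h x₀ (m := m) (by rw [hx₀, hxm])
  rw [hx₀] at hpa
  have hxy : Commute x y := hT.comm x hx y hy
  obtain ⟨y', hy', hay', hyo'⟩ := exists_lift_odd h ham (c := y) (by rw [hpa]; exact hxy) hyo
  have hza : z ∈ Subgroup.zpowers (π a) := by rw [hpa]; exact hzx
  have hta : t ∈ Subgroup.zpowers (a : G) := mem_zpowers_of_map h hza
  have hz2 : z * z = 1 := z_mul_z h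
  have h1 : F x = X a := by rw [hF a hza, hpa]
  have h2 : F (x * y) = X ((a : G) * (y' : G)) := by
    have h3 := hF (a * y') (by
      rw [map_mul, hpa, hy']
      exact mem_zpowers_mul hz2 hzx hxy hyo)
    rw [map_mul, hpa, hy'] at h3
    exact h3.symm
  have hcent : ∀ c : Subgroup.centralizer ({t} : Set G), Commute a c →
      Commute (π c) (π y') := by
    intro c hc
    rw [hy']
    refine hT.comm _ (hT.cent x hx hxZ _ ?_) y hy
    rw [← hpa, ← map_mul, ← map_mul, hc.eq]
  rw [h1, h2]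
  obtain ⟨χ, hχ, rfl | rfl⟩ := hX
  · exact irr_mul_odd h hM hχ ham hta hay' hyo' hcent
  · rw [Pi.neg_apply, Pi.neg_apply, irr_mul_odd h hM hχ ham hta hay' hyo' hcent]

theorem odd_mul {x y : C} (hc : Commute x y) (hx : Odd (orderOf x)) (hy : Odd (orderOf y)) :
    Odd (orderOf (x * y)) := by
  refine Odd.of_dvd_nat (hx.mul hy) (orderOf_dvd_of_pow_eq_one ?_)
  rw [hc.mul_pow, pow_mul, pow_orderOf_eq_one, one_pow, one_mul, mul_comm, pow_mul,
    pow_orderOf_eq_one, one_pow]

/-- The values of `F` on the section of the 2-element `ζ` of `Z`. -/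
theorem F_eval (h : Hyp t z π) (hC : CHyp z q ε Z T T' U s s' u)
    {M : Ideal AlgInt} (hM : IsPModular 2 M) {X : G → ℂ} (hX : InB (principalBlock M G) X)
    {F : C → ℂ}
    (hF : ∀ x : Subgroup.centralizer ({t} : Set G), z ∈ Subgroup.zpowers (π x) → X x = F (π x))
    {μ : U →* ℂˣ} (hμ : ∃ v : U, μ v ≠ 1) {ζ : C} (hζ : ζ ∈ Z) (hζ1 : ζ ≠ 1) {m : ℕ}
    (hm : ζ ^ 2 ^ m = 1) :
    ∃ a b : ℂ, ∀ y : C, Odd (orderOf y) → F (ζ * y) = ev T T' hC.base μ a b y := by
  obtain ⟨a, b, hab⟩ := section_eval h hC hM hX hμ hζ hζ1 hm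
  refine ⟨a, b, fun y hy => ?_⟩
  obtain ⟨x, hx⟩ := h.surj (ζ * y)
  rw [← hab x y hx hy, ← hx]
  refine (hF x ?_).symm
  rw [hx]
  exact mem_zpowers_mul hC.z_sq (hC.mem_zpowers hζ hζ1 hm) (hC.Z_central ζ hζ y).symm hy

theorem CHyp.odd_orderOf_U (hC : CHyp z q ε Z T T' U s s' u) {v : C} (hv : v ∈ U) :
    Odd (orderOf v) :=
  Odd.of_dvd_nat hC.odd_q (orderOf_dvd_of_pow_eq_one (hC.base.pow_card_U hv))

/-- **The modified values on `T` and on `T'`.** -/
theorem GG_eq (h : Hyp t z π) (hC : CHyp z q ε Z T T' U s s' u)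
    {M : Ideal AlgInt} (hM : IsPModular 2 M) {X : G → ℂ} (hX : InB (principalBlock M G) X)
    {F : C → ℂ}
    (hF : ∀ x : Subgroup.centralizer ({t} : Set G), z ∈ Subgroup.zpowers (π x) → X x = F (π x))
    {v₀ : C} (hv₀ : v₀ ∈ U) (hv₀1 : v₀ ≠ 1) :
    (∀ x ∈ T, z ∈ Subgroup.zpowers x → ∀ y ∈ T, Odd (orderOf y) →
      Torus.GG q ε Z F v₀ (x * y) = Torus.GG q ε Z F v₀ x) ∧
    (∀ x ∈ T', z ∈ Subgroup.zpowers x → ∀ y ∈ T', Odd (orderOf y) →
      Torus.GG q (-ε) Z F v₀ (x * y) = Torus.GG q (-ε) Z F v₀ x) := by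
  obtain ⟨μ, hμ⟩ := hC.base.exists_mu
  have hz2 : z * z = 1 := hC.z_sq
  have hv₀o : Odd (orderOf v₀) := hC.odd_orderOf_U hv₀
  -- elements of `Z`
  have hZ : ∀ {δ : ℤ} {T₁ : Subgroup C} {s₁ : C} (_ : Torus q δ Z T₁ s₁)
      (A B : ℂ → ℂ → ℂ)
      (_ : ∀ a b y, y ∈ T₁ → y ∉ Z → ev T T' hC.base μ a b y = A a b)
      (_ : ∀ a b y, y ∈ Z → ev T T' hC.base μ a b y =
        ((1 + δ * q) * A a b + (1 - δ * q) * B a b) / 2)
      (_ : ∀ a b y, y ∈ Z → ev T T' hC.base μ a b (y * v₀) = (A a b + B a b) / 2)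
      (ζ : C) (_ : ζ ∈ Z) (_ : z ∈ Subgroup.zpowers ζ) (m : ℕ) (_ : ζ ^ 2 ^ m = 1)
      (y : C) (_ : y ∈ T₁) (_ : Odd (orderOf y)),
      Torus.GG q δ Z F v₀ (ζ * y) = Torus.GG q δ Z F v₀ ζ := by
    intro δ T₁ s₁ hT A B h1 h2 h3 ζ hζ hzζ m hm y hy hyo
    have hζ1 : ζ ≠ 1 := by
      rintro rfl
      rw [Subgroup.zpowers_one_eq_bot, Subgroup.mem_bot] at hzζ
      exact hC.z_ne_one hzζ
    obtain ⟨a, b, hab⟩ := F_eval h hC hM hX hF hμ hζ hζ1 hm
    have key : ∀ y ∈ T₁, Odd (orderOf y) → Torus.GG q δ Z F v₀ (ζ * y) = A a b := by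
      intro y hy hyo
      by_cases hyZ : y ∈ Z
      · refine hT.GG_of_eval hC.base (mul_mem hζ hyZ) (b := B a b) ?_ ?_
        · rw [hab y hyo, h2 a b y hyZ]
        · rw [mul_assoc, hab (y * v₀) (odd_mul (hC.Z_central y hyZ v₀).symm hyo hv₀o),
            h3 a b y hyZ]
      · rw [Torus.GG_notMem (fun h4 => hyZ ((Z.mul_mem_cancel_left hζ).1 h4)), hab y hyo,
          h1 a b y hy hyZ]
    rw [key y hy hyo]
    have h4 := key 1 (one_mem T₁) (by rw [orderOf_one]; exact odd_one)
    rw [mul_one] at h4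
    rw [h4]
  -- general elements
  have hgen : ∀ {δ : ℤ} {T₁ : Subgroup C} {s₁ : C} (_ : Torus q δ Z T₁ s₁)
      (A B : ℂ → ℂ → ℂ)
      (_ : ∀ a b y, y ∈ T₁ → y ∉ Z → ev T T' hC.base μ a b y = A a b)
      (_ : ∀ a b y, y ∈ Z → ev T T' hC.base μ a b y =
        ((1 + δ * q) * A a b + (1 - δ * q) * B a b) / 2)
      (_ : ∀ a b y, y ∈ Z → ev T T' hC.base μ a b (y * v₀) = (A a b + B a b) / 2)
      (x : C) (_ : x ∈ T₁) (_ : z ∈ Subgroup.zpowers x) (y : C) (_ : y ∈ T₁)
      (_ : Odd (orderOf y)),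
      Torus.GG q δ Z F v₀ (x * y) = Torus.GG q δ Z F v₀ x := by
    intro δ T₁ s₁ hT A B h1 h2 h3 x hx hzx y hy hyo
    obtain ⟨m, r, k, hr, hk, hxk, hxr⟩ := CoreConst.exists_exponent C
    set x₂ := x ^ k with hx₂
    set x' := x₂⁻¹ * x with hx'
    have hx₂T : x₂ ∈ T₁ := pow_mem hx k
    have hx'T : x' ∈ T₁ := mul_mem (inv_mem hx₂T) hx
    have hx'o : Odd (orderOf x') := Odd.of_dvd_nat hr (orderOf_dvd_of_pow_eq_one (hxr x))
    have hzx₂ : z ∈ Subgroup.zpowers x₂ := by
      obtain ⟨l, hl⟩ := Subgroup.mem_zpowers_iff.1 hzx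
      refine Subgroup.mem_zpowers_iff.2 ⟨l, ?_⟩
      have h4 : z ^ k = z := by
        obtain ⟨j, hj⟩ := hk
        rw [hj, pow_succ, pow_mul, sq, hz2, one_pow, one_mul]
      rw [hx₂, ← zpow_natCast, ← zpow_mul, mul_comm, zpow_mul, hl, zpow_natCast, h4]
    have key : ∀ w ∈ T₁, Odd (orderOf w) →
        Torus.GG q δ Z F v₀ (x₂ * w) = Torus.GG q δ Z F v₀ x₂ := by
      intro w hw hwo
      by_cases hxZ : x₂ ∈ Z
      · exact hZ hT A B h1 h2 h3 x₂ hxZ hzx₂ m (hxk x) w hw hwo
      · -- `x₂ w` is not in `Z`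
        have h4 : x₂ * w ∉ Z := by
          intro h5
          apply hxZ
          have h6 : Commute x₂ w := hT.comm _ hx₂T _ hw
          have h7 : (x₂ * w) ^ orderOf w = x₂ ^ orderOf w := by
            rw [h6.mul_pow, pow_orderOf_eq_one, mul_one]
          -- `x₂` is a power of `x₂ ^ n`, `n` odd
          have h8 : Nat.Coprime (orderOf w) (orderOf x₂) := by
            refine Nat.Coprime.coprime_dvd_right (orderOf_dvd_of_pow_eq_one (hxk x)) ?_
            exact (Nat.Coprime.pow_left _ (Nat.coprime_two_left.2 hwo)).symm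
          obtain ⟨l, hl⟩ := exists_pow_eq_self_of_coprime h8
          rw [← hl, ← h7]
          exact pow_mem (pow_mem h5 _) _
        rw [Torus.GG_notMem h4, Torus.GG_notMem hxZ]
        exact F_mul_odd h hM hX hF hT hx₂T hxZ (hxk x) hzx₂ hw hwo
    have h5 : x = x₂ * x' := by rw [hx']; group
    have h6 : x * y = x₂ * (x' * y) := by rw [hx']; group
    rw [h6, key _ (mul_mem hx'T hy) (odd_mul (hT.comm _ hx'T _ hy) hx'o hyo)]
    conv_rhs => rw [h5]
    rw [key _ hx'T hx'o]
  refine ⟨fun x hx hzx y hy hyo => hgen hC.torus (fun a _ => a) (fun _ b => b)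
      (fun a b y hy hyZ => ev_T hC μ a b hy hyZ) (fun a b y hy => ev_Z hC μ a b hy)
      (fun a b y hy => ev_ZU hC hμ a b hy hv₀ hv₀1) x hx hzx y hy hyo,
    fun x hx hzx y hy hyo => hgen hC.torus' (fun _ b => b) (fun a _ => a)
      (fun a b y hy hyZ => ev_T' hC μ a b hy hyZ) (fun a b y hy => ?_)
      (fun a b y hy => ?_) x hx hzx y hy hyo⟩
  · rw [ev_Z hC μ a b hy]
    push_cast
    ring
  · rw [ev_ZU hC hμ a b hy hv₀ hv₀1]
    ring

end Eval

section Inner

variable {G : Type w} [Group G] [Fintype G] {C : Type v} [Group C] [Fintype C] {t : G} {z : C}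
  {π : (Subgroup.centralizer ({t} : Set G)) →* C} {q : ℕ} {ε : ℤ} {Z T T' U : Subgroup C}
  {s s' u : C}

/-- The support of `R_T(f)`. -/
theorem R_support (hC : CHyp z q ε Z T T' U s s' u) {δ : ℤ} {T₁ : Subgroup C} {s₁ : C}
    (hT : Torus q δ Z T₁ s₁) (μ : U →* ℂˣ) {f : C → ℂ}
    (hf : ∀ x ∈ T₁, f x ≠ 0 → z ∈ Subgroup.zpowers x) {c : C}
    (hc : Torus.R T₁ hC.base μ f c ≠ 0) : z ∈ Subgroup.zpowers c := by
  classical
  by_contra hcon
  apply hc
  have hconj : ∀ g : C, z ∉ Subgroup.zpowers (g⁻¹ * c * g) := by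
    intro g h1
    apply hcon
    obtain ⟨k, hk⟩ := Subgroup.mem_zpowers_iff.1 h1
    refine Subgroup.mem_zpowers_iff.2 ⟨k, ?_⟩
    have h2 : g⁻¹ * c ^ k * g = z := by
      rw [← hk]
      have := conj_zpow (i := k) (a := g⁻¹) (b := c)
      rw [inv_inv] at this
      exact this.symm
    have h3 : c ^ k = g * z * g⁻¹ := by rw [← h2]; group
    rw [h3, hC.Z_central z hC.t_mem g]
    group
  have h1 : indFun T₁ (fun y : T₁ => f y) c = 0 := by
    rw [ind_apply, Finset.sum_eq_zero, mul_zero]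
    intro g _
    split_ifs with hg
    · by_contra h2
      exact hconj g (hf _ hg h2)
    · rfl
  have h2 : hC.base.Gam μ f c = 0 := by
    rw [hC.base.Gam_apply, Finset.sum_eq_zero, mul_zero]
    intro g _
    by_cases hg : g⁻¹ * c * g ∈ hC.base.ZU
    · obtain ⟨y, hy, v, hv, he⟩ := hC.base.mem_ZU.1 hg
      rw [he, Core.extendByZero_of_mem _ _ (hC.base.mul_mem_ZU hy hv),
        hC.base.theta_apply μ f hy hv]
      by_cases h3 : f y = 0
      · rw [h3, zero_mul]
      · exfalso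
        apply hconj g
        rw [he]
        exact mem_zpowers_mul hC.z_sq (hf y (hT.Z_le hy) h3) (hC.Z_central y hy v).symm
          (hC.odd_orderOf_U hv)
    · rw [Core.extendByZero_of_notMem _ _ hg]
  unfold Torus.R
  rw [h1, h2, sub_zero]

/-- Inner products of `X` with the functions induced from `R_T(f) ∘ π`. -/
theorem classInner_ind_R (h : Hyp t z π) (hC : CHyp z q ε Z T T' U s s' u) {X : G → ℂ}
    (hX : IsClassFunction G X) {F : C → ℂ} (hFc : IsClassFunction C F)
    (hF : ∀ x : Subgroup.centralizer ({t} : Set G), z ∈ Subgroup.zpowers (π x) → X x = F (π x))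
    {δ : ℤ} {T₁ : Subgroup C} {s₁ : C} (hT : Torus q δ Z T₁ s₁) {μ : U →* ℂˣ}
    (hμ : ∃ v : U, μ v ≠ 1) {v₀ : C} (hv₀ : v₀ ∈ U) (hv₀1 : v₀ ≠ 1) {f : C → ℂ}
    (hf : ∀ x ∈ T₁, f x ≠ 0 → z ∈ Subgroup.zpowers x) :
    classInner (indFun (Subgroup.centralizer ({t} : Set G))
      (fun x => Torus.R T₁ hC.base μ f (π x))) X =
        (Nat.card T₁ : ℂ)⁻¹ * ssum T₁ (fun x => f x * conj (Torus.GG q δ Z F v₀ x)) := by
  rw [classInner_ind_values h hX (c := F) (fun x hx => hF x (R_support hC hT μ hf hx)),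
    hT.classInner_R_GG hC.base hμ f hFc hv₀ hv₀1]

/-- **The characters of the principal 2-block and the functions `R_T(f)`.** -/
theorem exists_functions (h : Hyp t z π) (hC : CHyp z q ε Z T T' U s s' u)
    {M : Ideal AlgInt} (hM : IsPModular 2 M) {X : G → ℂ} (hX : InB (principalBlock M G) X)
    {μ : U →* ℂˣ} (hμ : ∃ v : U, μ v ≠ 1) :
    ∃ a a' : C → ℂ,
      (∀ x ∈ T, z ∈ Subgroup.zpowers x → ∀ y ∈ T, Odd (orderOf y) → a (x * y) = a x) ∧
      (∀ x ∈ T', z ∈ Subgroup.zpowers x → ∀ y ∈ T', Odd (orderOf y) → a' (x * y) = a' x) ∧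
      (∀ f : C → ℂ, (∀ x ∈ T, f x ≠ 0 → z ∈ Subgroup.zpowers x) →
        classInner (indFun (Subgroup.centralizer ({t} : Set G))
          (fun x => Torus.R T hC.base μ f (π x))) X =
            (Nat.card T : ℂ)⁻¹ * ssum T (fun x => f x * conj (a x))) ∧
      (∀ f : C → ℂ, (∀ x ∈ T', f x ≠ 0 → z ∈ Subgroup.zpowers x) →
        classInner (indFun (Subgroup.centralizer ({t} : Set G))
          (fun x => Torus.R T' hC.base μ f (π x))) X =
            (Nat.card T' : ℂ)⁻¹ * ssum T' (fun x => f x * conj (a' x))) ∧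
      (∀ x ∈ T, x ∉ Z → z ∈ Subgroup.zpowers x →
        ∀ g : Subgroup.centralizer ({t} : Set G), π g = x → X g = a x) ∧
      (∀ x ∈ T', x ∉ Z → z ∈ Subgroup.zpowers x →
        ∀ g : Subgroup.centralizer ({t} : Set G), π g = x → X g = a' x) ∧
      (∀ ζ ∈ Z, z ∈ Subgroup.zpowers ζ → ∀ g : Subgroup.centralizer ({t} : Set G), π g = ζ →
        X g = ((1 + ε * q) * a ζ + (1 - ε * q) * a' ζ) / 2) ∧
      (∀ ζ ∈ Z, z ∈ Subgroup.zpowers ζ → ∀ v ∈ U, v ≠ 1 →
        ∀ g : Subgroup.centralizer ({t} : Set G), π g = ζ * v → X g = (a ζ + a' ζ) / 2) ∧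
      X t = ((1 + ε * q) * a z + (1 - ε * q) * a' z) / 2 := by
  obtain ⟨F, hFc, -, hF⟩ := CoreConst.exists_values h M hM hX
  obtain ⟨v₀, hv₀, hv₀1⟩ := hC.base.exists_ne_one
  have hXc : IsClassFunction G X := isClassFunction_signed hX.signedIrr
  obtain ⟨h1, h2⟩ := GG_eq h hC hM hX hF hv₀ hv₀1
  have hZv : ∀ ζ ∈ Z, z ∈ Subgroup.zpowers ζ → ∀ g : Subgroup.centralizer ({t} : Set G),
      π g = ζ → X g = ((1 + ε * q) * Torus.GG q ε Z F v₀ ζ +
        (1 - ε * q) * Torus.GG q (-ε) Z F v₀ ζ) / 2 := by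
    intro ζ hζ hzζ g hg
    rw [hF g (by rw [hg]; exact hzζ), hg]
    exact (hC.torus.eq_of_GG hC.base hζ).1
  refine ⟨Torus.GG q ε Z F v₀, Torus.GG q (-ε) Z F v₀, h1, h2,
    fun f hf => classInner_ind_R h hC hXc hFc hF hC.torus hμ hv₀ hv₀1 hf,
    fun f hf => classInner_ind_R h hC hXc hFc hF hC.torus' hμ hv₀ hv₀1 hf, ?_, ?_, hZv, ?_, ?_⟩
  · intro x _ hxZ hzx g hg
    rw [hF g (by rw [hg]; exact hzx), hg, Torus.GG_notMem hxZ]
  · intro x _ hxZ hzx g hg
    rw [hF g (by rw [hg]; exact hzx), hg, Torus.GG_notMem hxZ]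
  · intro ζ hζ hzζ v hv hv1 g hg
    rw [hF g (by
      rw [hg]
      exact mem_zpowers_mul hC.z_sq hzζ (hC.Z_central ζ hζ v).symm (hC.odd_orderOf_U hv)), hg,
      ← (hC.torus.eq_of_GG hC.base hζ (ψ := F) (v₀ := v₀)).2]
    obtain ⟨c, hc⟩ := hC.fus_U v₀ hv₀ v hv hv₀1 hv1
    rw [← hFc (ζ * v₀) c]
    congr 1
    rw [← hc, ← mul_assoc c, hC.Z_central ζ hζ c]
    group
  · exact hZv z hC.t_mem (Subgroup.mem_zpowers z) (tt t) (map_tt h)

end Inner

end Cfsg.Agent.Classification.InvCent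
end

-- part: Classification/InvCent/GPair
section
/-!
# The class formula for `C(t) → C` with odd kernel, `C` of type `GL₂(q)/Z₀`, `GU₂(q)/Z₀`

* `kap` : the number of involutions of `C(t)` over the noncentral involution `u` of `C`;
* `classFormula` : `|G : C(t)| ∑ c_j X_j(t)² / X_j(1) = kap² * pairSum z b`;
* `kap_odd`, `kap_eq_one`.
-/

set_option autoImplicit false
set_option linter.unusedSectionVars false

open Cfsg
open scoped ComplexConjugate

namespace Cfsg.Agent.Classification.InvCent.GPair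

open Cfsg.Agent.Characters Cfsg.Agent.Classification.BGIsometry
  Cfsg.Agent.Classification.BGOrder Cfsg.Agent.Classification.BGSplit
  Cfsg.Agent.Classification.RTwo.General Cfsg.Agent.Classification.InvCent

universe v w

/-- The number of involutions of `C(t)` over `u`. -/
noncomputable def kap {G : Type v} {C : Type w} [Group G] [Group C] {t : G}
    (π : (Subgroup.centralizer ({t} : Set G)) →* C) (u : C) : ℕ :=
  Nat.card {x : Subgroup.centralizer ({t} : Set G) // orderOf x = 2 ∧ π x = u}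

section Odd

variable {G : Type v} {C : Type w} [Group G] [Finite G] [Group C] {t : G} {z : C}
  {π : (Subgroup.centralizer ({t} : Set G)) →* C}

/-- The fibres of `π` have the order of the kernel. -/
theorem card_fibre (h : Hyp t z π) (u : C) :
    Nat.card {x : Subgroup.centralizer ({t} : Set G) // π x = u} = Nat.card π.ker := by
  obtain ⟨x₀, hx₀⟩ := h.surj u
  refine Nat.card_congr
    { toFun := fun x => ⟨x.1 * x₀⁻¹, ?_⟩
      invFun := fun k => ⟨k.1 * x₀, ?_⟩
      left_inv := fun x => Subtype.ext (by simp)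
      right_inv := fun k => Subtype.ext (by simp) }
  · rw [MonoidHom.mem_ker, map_mul, x.2, map_inv, hx₀, mul_inv_cancel]
  · rw [map_mul, hx₀, MonoidHom.mem_ker.1 k.2, one_mul]

/-- The number of involutions over an involution is odd. -/
theorem kap_odd' (h : Hyp t z π) {u : C} (hu : u * u = 1) (hu1 : u ≠ 1) : Odd (kap π u) := by
  classical
  let A := {x : Subgroup.centralizer ({t} : Set G) // π x = u}
  have := Fintype.ofFinite A
  have hu' : u⁻¹ = u := inv_eq_of_mul_eq_one_left hu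
  let f : Function.End A := fun x => ⟨x.1⁻¹, by rw [map_inv, x.2, hu']⟩
  have hf : f ^ 2 ^ 1 = 1 := by
    funext x
    apply Subtype.ext
    show (x.1⁻¹)⁻¹ = x.1
    rw [inv_inv]
  have : Fact (Nat.Prime 2) := ⟨Nat.prime_two⟩
  have h1 := Equiv.Perm.card_fixedPoints_modEq (p := 2) (n := 1) hf
  have h2 : Fintype.card (Function.fixedPoints f) = kap π u := by
    rw [kap, ← Nat.card_eq_fintype_card]
    refine Nat.card_congr
      { toFun := fun x => ⟨x.1.1, ?_, x.1.2⟩
        invFun := fun x => ⟨⟨x.1, x.2.2⟩, ?_⟩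
        left_inv := fun x => rfl
        right_inv := fun x => rfl }
    · have h3 : (x.1.1)⁻¹ = x.1.1 := congrArg Subtype.val x.2
      refine orderOf_of_mul_self ?_ ?_
      · nth_rw 1 [← h3]
        exact inv_mul_cancel _
      · intro h4
        apply hu1
        rw [← x.1.2, h4, map_one]
    · apply Subtype.ext
      exact inv_eq_of_mul_eq_one_left (mul_self_of_orderOf x.2.1)
  have h3 : Fintype.card A = Nat.card π.ker := by
    rw [← Nat.card_eq_fintype_card]
    exact card_fibre h u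
  rw [h2, h3] at h1
  have h4 : kap π u % 2 = 1 := by
    rw [← h1]
    exact Nat.odd_iff.1 h.odd_ker
  exact Nat.odd_iff.2 h4

/-- Injective `π`. -/
theorem kap_eq_one' (h : Hyp t z π) {u : C} (hu : orderOf u = 2) (hinj : Function.Injective π) :
    kap π u = 1 := by
  obtain ⟨x₀, hx₀⟩ := h.surj u
  rw [kap, Nat.card_eq_one_iff_unique]
  refine ⟨⟨fun x y => Subtype.ext (hinj (x.2.2.trans y.2.2.symm))⟩, ⟨⟨x₀, ?_, hx₀⟩⟩⟩
  rw [← orderOf_injective π hinj x₀, hx₀, hu]

/-- The involution of `C(t)` over `z` is `t`. -/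
theorem eq_tt (h : Hyp t z π) {x : Subgroup.centralizer ({t} : Set G)} (hx : orderOf x = 2)
    (hxz : π x = z) : x = tt t := by
  have h1 := mul_self_of_orderOf hx
  have h2 : π (x * tt t) = 1 := by rw [map_mul, hxz, map_tt h, z_mul_z h]
  have h3 : (x * tt t) ^ 2 ^ 1 = 1 := by
    rw [pow_one, sq]
    calc x * tt t * (x * tt t) = x * (tt t * x) * tt t := by group
      _ = (x * x) * (tt t * tt t) := by rw [(tt_comm x).eq]; group
      _ = 1 := by rw [h1, tt_mul_tt h, one_mul]
  have h4 := eq_one_of_ker h h2 h3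
  rw [eq_inv_of_mul_eq_one_left h4]
  exact inv_eq_of_mul_eq_one_left (tt_mul_tt h)

end Odd

section Formula

variable {G : Type v} {C : Type w} [Group G] [Group C] {t : G} {z : C}
  {π : (Subgroup.centralizer ({t} : Set G)) →* C} {q : ℕ} {ε : ℤ} {Z T T' U : Subgroup C}
  {s s' u : C}

theorem kap_odd [Finite G] (h : Hyp t z π) (hC : CHyp z q ε Z T T' U s s' u) : Odd (kap π u) := by
  refine kap_odd' h (mul_self_of_orderOf hC.orderOf_u) ?_
  rintro rfl
  have := hC.orderOf_u
  rw [orderOf_one] at this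
  norm_num at this

theorem kap_eq_one [Finite G] (h : Hyp t z π) (hC : CHyp z q ε Z T T' U s s' u)
    (hinj : Function.Injective π) : kap π u = 1 := kap_eq_one' h hC.orderOf_u hinj

/-- The number of involutions over each noncentral involution. -/
theorem card_over [Fintype C] (h : Hyp t z π) (hC : CHyp z q ε Z T T' U s s' u) {c : C}
    (hc : c ∈ nInv z) :
    Nat.card {x : Subgroup.centralizer ({t} : Set G) // orderOf x = 2 ∧ π x = c} = kap π u := by
  obtain ⟨d, hd⟩ := hC.nInv_isConj hc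
  obtain ⟨D, hD⟩ := h.surj d
  refine Nat.card_congr
    { toFun := fun x => ⟨D * x.1 * D⁻¹, ?_, ?_⟩
      invFun := fun x => ⟨D⁻¹ * x.1 * D, ?_, ?_⟩
      left_inv := fun x => Subtype.ext (by group)
      right_inv := fun x => Subtype.ext (by group) }
  · exact ((MulAut.conj D).orderOf_eq x.1).trans x.2.1
  · rw [map_mul, map_mul, map_inv, hD, x.2.2, ← hd]
    group
  · have := ((MulAut.conj D⁻¹).orderOf_eq x.1).trans x.2.1
    rwa [MulAut.conj_apply, inv_inv] at this
  · rw [map_mul, map_mul, map_inv, hD, x.2.2, ← hd]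

/-- **The class formula.** -/
theorem classFormula [Fintype G] [Fintype C] (h : Hyp t z π)
    (hC : CHyp z q ε Z T T' U s s' u) {b : C → ℂ} (hb : ∀ c, b c ≠ 0 → z ∈ Subgroup.zpowers c)
    {ι : Type*} (J : Finset ι) (c : ι → ℂ) (X : ι → G → ℂ) (hX : ∀ j ∈ J, SignedIrr (X j))
    (hind : indFun (Subgroup.centralizer ({t} : Set G)) (fun x => b (π x)) =
      fun g => ∑ j ∈ J, c j * X j g) :
    ((Subgroup.centralizer ({t} : Set G)).index : ℂ) * ∑ j ∈ J, c j * (X j t ^ 2 / X j 1) =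
      (kap π u : ℂ) ^ 2 * pairSum z b := by
  classical
  let _ : Fintype (Subgroup.centralizer ({t} : Set G)) := Fintype.ofFinite _
  -- make the characters honest
  let s : ι → ℂ := fun j => if IsIrrCharacter G (X j) then 1 else -1
  have hs : ∀ j ∈ J, (s j = 1 ∧ IsIrrCharacter G (X j)) ∨ (s j = -1 ∧ IsIrrCharacter G (-X j)) := by
    intro j hj
    by_cases hj2 : IsIrrCharacter G (X j)
    · exact Or.inl ⟨if_pos hj2, hj2⟩
    · exact Or.inr ⟨if_neg hj2, (hX j hj).resolve_left hj2⟩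
  have hind' : indFun (Subgroup.centralizer ({t} : Set G)) (fun x => b (π x)) =
      fun g => ∑ j ∈ J, (c j * s j) * ((fun j g => s j * X j g) j g) := by
    rw [hind]
    funext g
    refine Finset.sum_congr rfl fun j hj => ?_
    rcases hs j hj with ⟨h1, -⟩ | ⟨h1, -⟩ <;> · simp only [h1]; ring
  have hirr : ∀ j ∈ J, IsIrrCharacter G ((fun j g => s j * X j g) j) := by
    intro j hj
    rcases hs j hj with ⟨h1, h2⟩ | ⟨h1, h2⟩
    · have : (fun g => s j * X j g) = X j := by funext g; rw [h1, one_mul]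
      simpa only [this] using h2
    · have : (fun g => s j * X j g) = -X j := by
        funext g; rw [h1, neg_one_mul]; rfl
      simpa only [this] using h2
  have key := sum_pairs_eq t h.orderOf_t h.one_class _ rfl (fun x => b (π x)) J _ _ hirr hind'
  have hsum : ∑ j ∈ J, (c j * s j) * (((fun j g => s j * X j g) j t) ^ 2 /
      ((fun j g => s j * X j g) j 1)) = ∑ j ∈ J, c j * (X j t ^ 2 / X j 1) := by
    refine Finset.sum_congr rfl fun j hj => ?_
    rcases hs j hj with ⟨h1, -⟩ | ⟨h1, -⟩ <;> · simp only [h1]; ring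
  rw [hsum, sum_pairs_restrict t h.orderOf_t _ rfl (fun x => b (π x)) (supp_comp h hb)] at key
  rw [← key]
  -- the set of involutions
  set I : Finset (Subgroup.centralizer ({t} : Set G)) :=
    Finset.univ.filter (fun x => orderOf x = 2) with hI
  have hmem : ∀ x, x ∈ I ↔ orderOf x = 2 := fun x => by simp [hI]
  have hzz := z_mul_z h
  have hz1 := z_ne_one h
  have hmaps : ∀ x ∈ I, π x ∈ insert z (nInv z) := by
    intro x hx
    rw [hmem] at hx
    have hxx := mul_self_of_orderOf hx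
    rw [Finset.mem_insert, mem_nInv]
    by_cases hxz : π x = z
    · exact Or.inl hxz
    · refine Or.inr ⟨orderOf_of_mul_self (by rw [← map_mul, hxx, map_one]) ?_, hxz⟩
      intro h1
      have h2 := eq_one_of_ker h h1 (m := 1) (by rw [pow_one, sq, hxx])
      rw [h2, orderOf_one] at hx
      norm_num at hx
  -- sums over involutions
  have hsumI : ∀ F : C → ℂ, ∑ x ∈ I, F (π x) = F z + (kap π u : ℂ) * ∑ v ∈ nInv z, F v := by
    intro F
    rw [← Finset.sum_fiberwise_of_maps_to hmaps]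
    have hfib : ∀ c ∈ insert z (nInv z), ∑ x ∈ I.filter (fun x => π x = c), F (π x) =
        ((I.filter (fun x => π x = c)).card : ℂ) * F c := by
      intro c _
      rw [Finset.sum_congr rfl (g := fun _ => F c) (fun x hx => by
        rw [(Finset.mem_filter.1 hx).2]), Finset.sum_const, nsmul_eq_mul]
    rw [Finset.sum_congr rfl hfib, Finset.sum_insert (by
      rw [mem_nInv]; exact fun h0 => h0.2 rfl)]
    have h1 : (I.filter (fun x => π x = z)) = {tt t} := by
      ext x
      rw [Finset.mem_filter, hmem, Finset.mem_singleton]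
      constructor
      · rintro ⟨hx, hxz⟩
        exact eq_tt h hx hxz
      · rintro rfl
        refine ⟨orderOf_of_mul_self (tt_mul_tt h) ?_, map_tt h⟩
        intro h0
        apply hz1
        rw [← map_tt h, h0, map_one]
    have h2 : ∀ c ∈ nInv z, ((I.filter (fun x => π x = c)).card : ℂ) * F c =
        (kap π u : ℂ) * F c := by
      intro c hc
      congr 2
      rw [← card_over h hC hc, Nat.card_eq_fintype_card, Fintype.card_subtype]
      congr 1
      ext x
      simp [hI]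
    rw [h1, Finset.card_singleton, Nat.cast_one, one_mul, Finset.sum_congr rfl h2,
      ← Finset.mul_sum]
  have hb1 : b 1 = 0 := by
    by_contra h0
    have h2 := hb 1 h0
    rw [Subgroup.zpowers_one_eq_bot, Subgroup.mem_bot] at h2
    exact hz1 h2
  have hbz : ∀ v ∈ nInv z, b (z * v) = 0 := by
    intro v hv
    by_contra h0
    obtain ⟨k, hk⟩ := Subgroup.mem_zpowers_iff.1 (hb _ h0)
    have hvv := nInv_mul_self hv
    have h2 : (z * v) * (z * v) = 1 := by
      calc z * v * (z * v) = z * (v * z) * v := by group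
        _ = (z * z) * (v * v) := by rw [← (z_comm h v).eq]; group
        _ = 1 := by rw [hzz, hvv, one_mul]
    have h3 : (z * v) ^ (2 : ℤ) = 1 := by rw [zpow_two, h2]
    rcases Int.even_or_odd' k with ⟨j, hj | hj⟩
    · rw [hj, zpow_mul, h3, one_zpow] at hk
      exact hz1 hk.symm
    · rw [hj, zpow_add, zpow_mul, h3, one_zpow, one_mul, zpow_one] at hk
      have h4 : v = 1 := mul_eq_left.1 hk
      rw [mem_nInv, h4, orderOf_one] at hv
      exact absurd hv.1 (by norm_num)
  have hbz' : ∀ v ∈ nInv z, b (v * z) = 0 := by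
    intro v hv
    rw [← (z_comm h v).eq]
    exact hbz v hv
  have hinner : ∀ x : Subgroup.centralizer ({t} : Set G), ∑ y ∈ I, b (π (x * y)) =
      b (π x * z) + (kap π u : ℂ) * ∑ v ∈ nInv z, b (π x * v) := by
    intro x
    rw [← hsumI (fun d => b (π x * d))]
    exact Finset.sum_congr rfl fun y _ => by rw [map_mul]
  rw [Finset.sum_congr rfl fun x _ => hinner x,
    hsumI (fun d => b (d * z) + (kap π u : ℂ) * ∑ v ∈ nInv z, b (d * v)), hzz, hb1, zero_add,
    Finset.sum_eq_zero hbz, mul_zero, zero_add, Finset.sum_add_distrib,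
    Finset.sum_eq_zero hbz', zero_add, ← Finset.mul_sum, pairSum]
  ring

end Formula

end Cfsg.Agent.Classification.InvCent.GPair
end
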