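import Mathlib
import Cfsg.Agent.Classification.InvCent.SDMain
import Cfsg.Agent.Classification.InvCent.Defs
import Cfsg.Agent.Classification.InvCent.FusionCore
import Cfsg.Agent.SporRec.LyReduce
import Cfsg.Agent.Classification.RTwo.SDChar
set_option linter.all false

-- part: Classification/InvCent/SDElim
section
/-!
# The parameter `k` of the semidihedral case

`k = Q (Q² - 1) / (f - Q)`, `Q = ε q`.
-/

set_option autoImplicit false
set_option linter.unusedSectionVars false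

open Cfsg

namespace Cfsg.Agent.Classification.InvCent.SDElim

theorem dvd_of_quad {a c α β : ℤ} (hc : c ≠ 0) (h : a ^ 2 + α * a * c + β * c ^ 2 = 0) : c ∣ a := by
  have hg : 0 < Int.gcd a c := Int.gcd_pos_of_ne_zero_right _ hc
  obtain ⟨a', c', hcop, ha, hc'⟩ := Int.exists_gcd_one hg
  set d : ℤ := (Int.gcd a c : ℤ) with hd
  have hd0 : d ≠ 0 := by rw [hd]; exact_mod_cast hg.ne'
  have h1 : a' ^ 2 + α * a' * c' + β * c' ^ 2 = 0 := by
    have h2 : d ^ 2 * (a' ^ 2 + α * a' * c' + β * c' ^ 2) = 0 := by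
      rw [ha, hc'] at h
      linear_combination h
    exact (mul_eq_zero.1 h2).resolve_left (pow_ne_zero 2 hd0)
  have h2 : c' ∣ a' ^ 2 := ⟨-(α * a') - β * c', by linear_combination h1⟩
  have h3 : IsCoprime a' c' := Int.isCoprime_iff_gcd_eq_one.2 hcop
  have h4 : IsUnit c' := (h3.pow_left (m := 2)).symm.isUnit_of_dvd' dvd_rfl h2
  obtain ⟨e, he⟩ := h4.exists_left_inv
  refine ⟨e * a', ?_⟩
  rw [ha, hc']
  linear_combination -(a' * d) * he

theorem elim {Q n f x : ℤ} (hQ : Odd Q) (hQ1 : Q ≠ 1) (hQ2 : Q ≠ -1) (hn : Odd n)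
    (hA : n * (f - Q) ^ 2 = Q * (Q - 1) * (Q + 1) ^ 2 * f * (f - 1))
    (hB : x * (f - Q ^ 2) = -Q ^ 2 * (f - 1)) :
    ∃ k : ℤ, Odd k ∧ k ∣ Q * (Q ^ 2 - 1) ∧ Q + 1 - k ∣ Q * (Q + 1) ^ 2 ∧
      n = (Q ^ 2 - 1 + k) * (Q ^ 2 + Q + k) ∧ f * k = Q * (Q ^ 2 - 1 + k) ∧
      x * (Q + 1 - k) = -(Q * (Q ^ 2 + Q + k)) := by
  have hQ0 : Q ≠ 0 := by rintro rfl; simp at hQ
  have e1 : Q - 1 ≠ 0 := sub_ne_zero.2 hQ1
  have e2 : Q + 1 ≠ 0 := by
    intro h1
    exact hQ2 (by linarith)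
  have hc : f - Q ≠ 0 := by
    intro h1
    have h2 : f = Q := by linarith
    rw [h2, sub_self] at hA
    have h3 : Q * (Q - 1) * (Q + 1) ^ 2 * Q * (Q - 1) ≠ 0 := by positivity
    apply h3
    rw [← hA]
    ring
  have hdvd : f - Q ∣ Q * (Q ^ 2 - 1) := by
    apply dvd_of_quad (α := 2 * Q ^ 2 + Q - 1) (β := (Q ^ 2 - 1) * (Q ^ 2 + Q) - n) hc
    linear_combination -hA
  obtain ⟨k, hk⟩ := hdvd
  have hfk : f * k = Q * (Q ^ 2 - 1 + k) := by linear_combination -hk
  have hnk : n = (Q ^ 2 - 1 + k) * (Q ^ 2 + Q + k) := by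
    have h1 : (f - Q) ^ 2 * n = (f - Q) ^ 2 * ((Q ^ 2 - 1 + k) * (Q ^ 2 + Q + k)) := by
      linear_combination hA + ((Q ^ 2 - 1) * (f - Q) + (Q ^ 2 + Q) * (f - Q) + Q * (Q ^ 2 - 1)
        + (f - Q) * k) * hk
    exact mul_left_cancel₀ (pow_ne_zero 2 hc) h1
  have hodd : Odd k := by
    rw [hnk] at hn
    have h1 := (Int.odd_mul.1 hn).1
    have h2 : Even (Q ^ 2 - 1) := by
      obtain ⟨m, hm⟩ := hQ
      exact ⟨2 * m ^ 2 + 2 * m, by rw [hm]; ring⟩
    by_contra h3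
    rw [Int.not_odd_iff_even] at h3
    exact (Int.not_even_iff_odd.2 h1) (h2.add h3)
  have hx : x * (Q + 1 - k) = -(Q * (Q ^ 2 + Q + k)) := by
    have h1 : (Q * (Q - 1)) * (x * (Q + 1 - k)) =
        (Q * (Q - 1)) * (-(Q * (Q ^ 2 + Q + k))) := by
      linear_combination k * hB - (x + Q ^ 2) * hfk
    exact mul_left_cancel₀ (mul_ne_zero hQ0 e1) h1
  refine ⟨k, hodd, ⟨f - Q, by rw [hk]; ring⟩, ⟨Q - x, ?_⟩, hnk, hfk, hx⟩
  linear_combination hx

end Cfsg.Agent.Classification.InvCent.SDElim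
end

-- part: Classification/InvCent/Fusion
section
/-!
# Fusion of involutions in a simple group with centralizer of type `GL₂(q)/Z₀`, `GU₂(q)/Z₀`

`result`: all involutions are conjugate to `t₀`, and some element swaps `t₀` and `u`.
-/

set_option autoImplicit false

namespace Cfsg.Agent.Classification.InvCent.Fusion

open Cfsg.Agent.Classification.InvCent

variable {G : Type*} [Group G] [Finite G] [IsSimpleGroup G] {t₀ : G} {q : ℕ} {ε : ℤ}
  {t : Subgroup.centralizer ({t₀} : Set G)} {Z T T' U : Subgroup (Subgroup.centralizer ({t₀} : Set G))}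
  {s s' u : Subgroup.centralizer ({t₀} : Set G)}

/-- `t₀` commutes with one of its conjugates different from `t₀` (Z*-theorem). -/
theorem exists_conj_ne (ht : (t : G) = t₀) (h : CHyp t q ε Z T T' U s s' u) :
    ∃ g : G, g * t₀ * g⁻¹ ≠ t₀ ∧ Commute t₀ (g * t₀ * g⁻¹) := by
  refine Cfsg.Agent.SporRec.LyReduce.exists_conj_ne t₀ ?_ ⟨s, u, ?_⟩
  · rw [← ht, Subgroup.orderOf_coe]; exact h.orderOf_t
  · intro hsu
    have h1 : s * u = u * s := Subtype.ext hsu
    have h2 := h.s_u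
    rw [h1, mul_inv_cancel_right] at h2
    have h3 : t = 1 := by
      have : t * u = 1 * u := by rw [one_mul]; exact h2.symm
      exact mul_right_cancel this
    have h4 := h.orderOf_t
    rw [h3, orderOf_one] at h4
    omega

/-- One class of involutions. -/
theorem isConj (ht : (t : G) = t₀) (h : CHyp t q ε Z T T' U s s' u) (x : G)
    (hx : orderOf x = 2) : IsConj t₀ x :=
  FusionCore.isConj_of_orderOf ht h (exists_conj_ne ht h) hx

/-- Some element of `G` swaps `t₀` and `u`. -/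
theorem exists_swap (ht : (t : G) = t₀) (h : CHyp t q ε Z T T' U s s' u) :
    ∃ w : G, w * t₀ * w⁻¹ = u ∧ w * (u : G) * w⁻¹ = t₀ :=
  FusionCore.exists_swap ht h (exists_conj_ne ht h)

end Cfsg.Agent.Classification.InvCent.Fusion
end

-- part: Classification/InvCent/SDEnd
section
/-!
# Semidihedral case, `G` simple, `C = C_G(t)`
-/

set_option autoImplicit false
set_option linter.unusedSectionVars false

open Cfsg

namespace Cfsg.Agent.Classification.InvCent.SDEnd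

open Cfsg.Agent.Characters Cfsg.Agent.Classification.BGOrder Cfsg.Agent.Classification.BGSplit
  Cfsg.Agent.Classification.InvCent Cfsg.Agent.Classification.InvCent.GPair

universe w

theorem hom_eq_one {G : Type w} [Group G] [IsSimpleGroup G] (hnc : ∃ a b : G, a * b ≠ b * a)
    (ν : G →* ℂˣ) : ν = 1 := by
  rcases (MonoidHom.normal_ker ν).eq_bot_or_eq_top with h1 | h1
  · exfalso
    obtain ⟨a, b, hab⟩ := hnc
    apply hab
    apply (MonoidHom.ker_eq_bot_iff ν).1 h1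
    rw [map_mul, map_mul, mul_comm]
  · ext x
    have h2 : x ∈ ν.ker := by rw [h1]; exact Subgroup.mem_top _
    rw [MonoidHom.mem_ker] at h2
    rw [h2, MonoidHom.one_apply]

theorem eq_one_of_degree {G : Type w} [Group G] [Finite G] [IsSimpleGroup G]
    (hnc : ∃ a b : G, a * b ≠ b * a) {X : G → ℂ} (hX : SignedIrr X) (h1 : X 1 = 1) : X = 1 := by
  rcases hX with hX | hX
  · obtain ⟨ν, rfl⟩ := Linear.exists_hom_of_isIrrCharacter hX h1
    rw [hom_eq_one hnc ν]
    funext x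
    simp
  · exfalso
    obtain ⟨m, hm, h2⟩ := Core.isIrr_apply_one hX
    rw [Pi.neg_apply, h1] at h2
    have h3 : ((m + 1 : ℕ) : ℂ) = 0 := by
      push_cast
      rw [← h2]
      ring
    have h4 : m + 1 = 0 := by exact_mod_cast h3
    omega

section

variable {G : Type w} [Group G] [Fintype G] [IsSimpleGroup G] {t₀ : G}
  {t : Subgroup.centralizer ({t₀} : Set G)} {q : ℕ} {ε : ℤ}
  {Z T T' U : Subgroup (Subgroup.centralizer ({t₀} : Set G))}
  {s s' u : Subgroup.centralizer ({t₀} : Set G)}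

theorem hyp (ht : (t : G) = t₀) (h : CHyp t q ε Z T T' U s s' u) :
    RTwo.General.Hyp t₀ t (MonoidHom.id (Subgroup.centralizer ({t₀} : Set G))) where
  orderOf_t := by rw [← ht, Subgroup.orderOf_coe]; exact h.orderOf_t
  one_class := Fusion.isConj ht h
  surj := Function.surjective_id
  odd_ker := by
    rw [(MonoidHom.ker_eq_bot_iff _).2 Function.injective_id, Subgroup.card_bot]
    exact odd_one
  map_t := fun hm => Subtype.ext ht.symm

theorem not_comm (h : CHyp t q ε Z T T' U s s' u) : ∃ a b : G, a * b ≠ b * a := by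
  refine ⟨s, u, fun h1 => ?_⟩
  have h2 : s * u = u * s := Subtype.ext h1
  have h3 := h.s_u
  rw [h2, mul_inv_cancel_right] at h3
  exact h.t_ne (mul_eq_right.1 h3.symm)

theorem odd_index (ht : (t : G) = t₀) (h : CHyp t q ε Z T T' U s s' u) :
    Odd (Subgroup.centralizer ({t₀} : Set G)).index :=
  RTwo.SDChar.odd_index (hyp ht h).orderOf_t (hyp ht h).one_class

theorem r_eq {r : ℕ} {b : Subgroup.centralizer ({t₀} : Set G) →* ℂˣ}
    (hD : DetHyp q ε T T' U s s' u r b) (h4 : ¬ (4 : ℤ) ∣ q - ε) : r = 2 := by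
  obtain ⟨m, hm, rfl⟩ := hD.r_pow
  obtain ⟨k, hk, hqk⟩ := hD.r_dvd
  by_contra hne
  apply h4
  have hm2 : 2 ≤ m := by
    by_contra h1
    have : m = 1 := by omega
    rw [this] at hne
    norm_num at hne
  rw [hqk]
  have : (4 : ℤ) ∣ ((2 ^ m : ℕ) : ℤ) := by
    push_cast
    exact (by norm_num : (4 : ℤ) ∣ 2 ^ 2).trans (pow_dvd_pow 2 hm2)
  exact this.mul_right k

/-- The characters and the parameter `k`, semidihedral case. -/
theorem exists_data [Fintype (Subgroup.centralizer ({t₀} : Set G))] (ht : (t : G) = t₀) (h : CHyp t q ε Z T T' U s s' u)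
    {r : ℕ} {b : Subgroup.centralizer ({t₀} : Set G) →* ℂˣ}
    (hD : DetHyp q ε T T' U s s' u r b) (h4 : ¬ (4 : ℤ) ∣ q - ε) :
    ∃ (M : Ideal AlgInt) (μ : U →* ℂˣ) (X₂ X₃ X₄ X₅ L : G → ℂ) (f x k : ℤ),
      IsPModular 2 M ∧ (∃ v : U, μ v ≠ 1) ∧
      SDRes M h μ (MonoidHom.id (Subgroup.centralizer ({t₀} : Set G))) X₂ X₃ X₄ X₅ L f x ∧
      Odd k ∧ k ∣ (ε * q) * ((ε * q) ^ 2 - 1) ∧
      (ε * q) + 1 - k ∣ (ε * q) * ((ε * q) + 1) ^ 2 ∧
      ((Subgroup.centralizer ({t₀} : Set G)).index : ℤ) =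
        ((ε * q) ^ 2 - 1 + k) * ((ε * q) ^ 2 + (ε * q) + k) ∧
      f * k = (ε * q) * ((ε * q) ^ 2 - 1 + k) ∧
      x * ((ε * q) + 1 - k) = -((ε * q) * ((ε * q) ^ 2 + (ε * q) + k)) := by
  have hr := r_eq hD h4
  subst hr
  obtain ⟨M, hM⟩ := Blocks.ExistsModular.exists_isPModular Nat.prime_two
  have H := hyp ht h
  obtain ⟨μ, hμ, X₂, X₃, X₄, X₅, L, f, x, R⟩ := exists_sdRes H h hD hM
    (fun X hX h1 => eq_one_of_degree (not_comm h) hX h1)
  have hκ : kap (MonoidHom.id (Subgroup.centralizer ({t₀} : Set G))) u = 1 :=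
    kap_eq_one H h Function.injective_id
  have hA := R.eqA
  rw [hκ, Nat.cast_one, one_pow, one_mul] at hA
  have hq1 := h.one_lt_q
  have hQo : Odd (ε * (q : ℤ)) := by
    have h1 : Odd (q : ℤ) := by exact_mod_cast h.odd_q
    rcases h.eps with h2 | h2 <;> rw [h2]
    · rw [one_mul]; exact h1
    · exact (by decide : Odd (-1 : ℤ)).mul h1
  have hQ1 : ε * (q : ℤ) ≠ 1 := by
    rcases h.eps with h2 | h2 <;> rw [h2] <;> omega
  have hQ2 : ε * (q : ℤ) ≠ -1 := by
    rcases h.eps with h2 | h2 <;> rw [h2] <;> omega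
  obtain ⟨k, k1, k2, k3, k4, k5, k6⟩ := SDElim.elim hQo hQ1 hQ2
    (by exact_mod_cast odd_index ht h : Odd ((Subgroup.centralizer ({t₀} : Set G)).index : ℤ))
    (by rw [hA]) (by rw [R.eqB])
  exact ⟨M, μ, X₂, X₃, X₄, X₅, L, f, x, k, hM, hμ, R, k1, k2, k3, k4, k5, k6⟩

end

end Cfsg.Agent.Classification.InvCent.SDEnd
end
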