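import Cfsg.Agent.Classification.InvCent.WreathedGram
set_option linter.all false

/-!
# The Gram matrix argument, second part

From the family `Φ l t` (`Φ o t = 1 - X + L t`) and a generalized character `Ψ` of norm `3` with
`(Ψ, Φ l t) = [l = i] - [l = j]`: `Φ i t = Φ o t - 1 + X + Y - V` and `Ψ = Y + conj V - W`.
-/

set_option autoImplicit false
set_option linter.unusedSectionVars false
set_option linter.unusedVariables false

open Cfsg
open scoped ComplexConjugate

namespace Cfsg.Agent.Classification.InvCent.WreathedGramTwo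

open Cfsg.Agent.Classification.BGOrder Cfsg.Agent.Characters.Core
  Cfsg.Agent.Classification.BGSplit Cfsg.Agent.Classification.InvCent.WreathedGram

universe u

variable {G : Type u} [Group G] [Fintype G]

/-- The complex conjugate function. -/
def cj (f : G → ℂ) : G → ℂ := fun g => conj (f g)

theorem cj_apply (f : G → ℂ) (g : G) : cj f g = conj (f g) := rfl

theorem cj_cj (f : G → ℂ) : cj (cj f) = f := by
  funext g
  rw [cj_apply, cj_apply, Complex.conj_conj]

theorem cj_sub (f g : G → ℂ) : cj (f - g) = cj f - cj g := by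
  funext x
  simp only [cj_apply, Pi.sub_apply, map_sub]

theorem cj_add (f g : G → ℂ) : cj (f + g) = cj f + cj g := by
  funext x
  simp only [cj_apply, Pi.add_apply, map_add]

theorem cj_neg (f : G → ℂ) : cj (-f) = -cj f := by
  funext x
  simp only [cj_apply, Pi.neg_apply, map_neg]

theorem cj_one : cj (1 : G → ℂ) = 1 := by
  funext x
  simp only [cj_apply, Pi.one_apply, map_one]

theorem inner_cj (f g : G → ℂ) : classInner (cj f) (cj g) = conj (classInner f g) := by
  rw [classInner_def, classInner_def, map_mul, map_inv₀, Complex.conj_natCast, map_sum]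
  simp only [cj_apply, map_mul]

theorem signed_cj {Y : G → ℂ} (hY : SignedIrr Y) : SignedIrr (cj Y) := by
  rcases hY with h | h
  · exact Or.inl (isIrr_conj h)
  · right
    rw [← cj_neg]
    exact isIrr_conj h

theorem cj_at_one {Y : G → ℂ} (hY : SignedIrr Y) : cj Y 1 = Y 1 := by
  obtain ⟨n, hn⟩ := signed_apply_one hY
  rw [cj_apply, hn, map_intCast]

/-- A generalized character of norm `2` is a difference of two orthogonal signed irreducible
characters. -/
theorem decomp_two {f : G → ℂ} (hf : IsGeneralizedCharacter G f) (h2 : classInner f f = 2) :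
    ∃ P Q : G → ℂ, SignedIrr P ∧ SignedIrr Q ∧ classInner P Q = 0 ∧ f = P - Q := by
  have h2' : classInner f f = ((2 : ℤ) : ℂ) := by rw [h2]; norm_num
  obtain ⟨P, hP, hP1, hP2, hP3⟩ := peel hf h2' (by norm_num) (by norm_num)
  have hkP : classInner (f - P) P = 0 := by
    rw [classInner_sub_left, hP1, signed_self hP, sub_self]
  obtain ⟨Q, hQ, hQ1, hQ2, hQ3⟩ := peel hP2 hP3 (by norm_num) (by norm_num)
  have h0 : f - P - Q = 0 := classInner_self_eq_zero (by rw [hQ3]; norm_num)
  refine ⟨P, -Q, hP, signed_neg hQ, ?_, ?_⟩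
  · rw [classInner_neg_right, inner_symm_zero (inner_zero_of hQ hP hQ1 hkP), neg_zero]
  · have : f = (f - P - Q) + (P - -Q) := by abel
    rw [this, h0, zero_add]

theorem inner_neg_self {Y V : G → ℂ} (h : Y = V ∨ Y = -V) {Z : G → ℂ}
    (hZ : classInner V Z = 0) : classInner Y Z = 0 := by
  rcases h with rfl | rfl
  · exact hZ
  · rw [classInner_neg_left, hZ, neg_zero]

/-- The core of the disjointness: a common constituent is impossible. -/
theorem disjoint_aux {Y V Y' V' : G → ℂ} (hY : SignedIrr Y) (hV : SignedIrr V)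
    (hY' : SignedIrr Y') (hV' : SignedIrr V') (hYV : classInner Y V = 0)
    (hYV' : classInner Y' V' = 0) (hRR : classInner (Y - V) (Y' - V') = 0)
    (hdeg : Y 1 - V 1 = Y' 1 - V' 1) : classInner Y Y' = 0 := by
  have hY1 := hY.apply_one_ne_zero
  have hV1 := hV.apply_one_ne_zero
  rcases signed_inner hY hY' with h | h | h
  · exact h
  · exfalso
    subst h
    -- `Y' = Y`
    have hVY : classInner V Y = 0 := inner_symm_zero hYV
    simp only [classInner_sub_left, classInner_sub_right, signed_self hY, hYV', hVY] at hRR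
    have hVV' : classInner V V' = -1 := by linear_combination hRR
    rcases signed_inner hV hV' with h1 | h1 | h1
    · rw [h1] at hVV'; norm_num at hVV'
    · rw [h1, signed_self hV'] at hVV'; norm_num at hVV'
    · apply hV1
      have h2 := congrFun h1 1
      rw [Pi.neg_apply] at h2
      linear_combination (1 / 2 : ℂ) * h2 - (1 / 2 : ℂ) * hdeg
  · exfalso
    have hY'e : Y' = -Y := by rw [h, neg_neg]
    subst hY'e
    have hVY : classInner V Y = 0 := inner_symm_zero hYV
    have hYV'' : classInner Y V' = 0 := by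
      rw [classInner_neg_left] at hYV'
      exact neg_eq_zero.1 hYV'
    simp only [classInner_sub_left, classInner_sub_right, classInner_neg_right, signed_self hY,
      hYV'', hVY] at hRR
    have hVV' : classInner V V' = 1 := by linear_combination hRR
    have h1 := signed_eq_of_inner_one hV hV' hVV'
    apply hY1
    have h2 := congrFun h1 1
    rw [Pi.neg_apply] at hdeg
    linear_combination (1 / 2 : ℂ) * hdeg + (1 / 2 : ℂ) * h2

/-- Two orthogonal differences of the same degree have no common constituents. -/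
theorem disjoint {Y V Y' V' : G → ℂ} (hY : SignedIrr Y) (hV : SignedIrr V)
    (hY' : SignedIrr Y') (hV' : SignedIrr V') (hYV : classInner Y V = 0)
    (hYV' : classInner Y' V' = 0) (hRR : classInner (Y - V) (Y' - V') = 0)
    (hdeg : Y 1 - V 1 = Y' 1 - V' 1) :
    classInner Y Y' = 0 ∧ classInner Y V' = 0 ∧ classInner V Y' = 0 ∧ classInner V V' = 0 := by
  have hVY := inner_symm_zero hYV
  have hVY' := inner_symm_zero hYV'
  -- replace `(Y, V)` by `(-V, -Y)`
  have e1 : (-V : G → ℂ) - -Y = Y - V := by abel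
  have e2 : (-V' : G → ℂ) - -Y' = Y' - V' := by abel
  have n1 : classInner (-V) (-Y) = 0 := by
    rw [classInner_neg_left, classInner_neg_right, hVY, neg_zero, neg_zero]
  have n2 : classInner (-V') (-Y') = 0 := by
    rw [classInner_neg_left, classInner_neg_right, hVY', neg_zero, neg_zero]
  refine ⟨disjoint_aux hY hV hY' hV' hYV hYV' hRR hdeg, ?_, ?_, ?_⟩
  · have h := disjoint_aux hY hV (signed_neg hV') (signed_neg hY') hYV n2 (by rw [e2]; exact hRR)
      (by rw [Pi.neg_apply, Pi.neg_apply]; linear_combination hdeg)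
    rwa [classInner_neg_right, neg_eq_zero] at h
  · have h := disjoint_aux (signed_neg hV) (signed_neg hY) hY' hV' n1 hYV' (by rw [e1]; exact hRR)
      (by rw [Pi.neg_apply, Pi.neg_apply]; linear_combination hdeg)
    rwa [classInner_neg_left, neg_eq_zero] at h
  · have h := disjoint_aux (signed_neg hV) (signed_neg hY) (signed_neg hV') (signed_neg hY') n1 n2
      (by rw [e1, e2]; exact hRR)
      (by rw [Pi.neg_apply, Pi.neg_apply, Pi.neg_apply, Pi.neg_apply]; linear_combination hdeg)
    rwa [classInner_neg_left, classInner_neg_right, neg_neg] at h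

/-- A signed irreducible character orthogonal to `Y - V` is orthogonal to `Y`. -/
theorem inner_eq_zero_of_sub {Y V Z : G → ℂ} (hY : SignedIrr Y) (hV : SignedIrr V)
    (hZ : SignedIrr Z) (hYV : classInner Y V = 0) (h : classInner (Y - V) Z = 0) :
    classInner Y Z = 0 ∧ classInner V Z = 0 := by
  rw [classInner_sub_left] at h
  have h0 : classInner Y Z = 0 := by
    rcases signed_inner hY hZ with h1 | h1 | h1
    · exact h1
    · exfalso
      subst h1
      rw [signed_self hY, inner_symm_zero hYV] at h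
      norm_num at h
    · exfalso
      have h2 : Z = -Y := by rw [h1, neg_neg]
      subst h2
      rw [classInner_neg_right, classInner_neg_right, signed_self hY, inner_symm_zero hYV] at h
      norm_num at h
  refine ⟨h0, ?_⟩
  rw [h0] at h
  linear_combination -h

section

variable {Λ Θ : Type*} [DecidableEq Λ] [DecidableEq Θ] {o : Λ} {Φ : Λ → Θ → G → ℂ}

/-- `β` does not depend on `t`. -/
theorem beta_const (h : Family o Φ) (l : Λ) (t t' : Θ) :
    Φ l t - Φ o t = Φ l t' - Φ o t' := by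
  by_cases hl : l = o
  · rw [hl, sub_self, sub_self]
  by_cases ht : t = t'
  · rw [ht]
  have h0 : classInner ((Φ l t - Φ o t) - (Φ l t' - Φ o t'))
      ((Φ l t - Φ o t) - (Φ l t' - Φ o t')) = 0 := by
    simp only [classInner_sub_left, classInner_sub_right, h.gram, if_neg hl, if_neg (Ne.symm hl),
      if_neg ht, if_neg (Ne.symm ht), if_true]
    ring
  exact sub_eq_zero.1 (classInner_self_eq_zero h0)

/-- The function `R l = β l + 1 - X`. -/
theorem R_facts [Fintype Λ] [Fintype Θ] (h : Family o Φ) {X : G → ℂ} {L : Θ → G → ℂ}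
    (s : Split o Φ X L) (hΛ : 4 ≤ Fintype.card Λ) (hΘ : 2 ≤ Fintype.card Θ) {l : Λ} (hl : l ≠ o)
    (t : Θ) :
    IsGeneralizedCharacter G (Φ l t - Φ o t + 1 - X) ∧
      classInner (Φ l t - Φ o t + 1 - X) (Φ l t - Φ o t + 1 - X) = 2 ∧
      classInner (Φ l t - Φ o t + 1 - X) 1 = 0 ∧ classInner (Φ l t - Φ o t + 1 - X) X = 0 ∧
      (∀ t', classInner (Φ l t - Φ o t + 1 - X) (L t') = 0) ∧
      (Φ l t - Φ o t + 1 - X) 1 = 1 - X 1 := by
  obtain ⟨hg, hb1, hbb, hb0, -⟩ := h.beta_basic s hl t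
  have hbX : classInner (Φ l t - Φ o t) X = 1 := by
    rw [classInner_sub_left, h.phi_X s hΛ hΘ l t, h.phi_X s hΛ hΘ o t, if_neg hl, if_pos rfl]
    norm_num
  have hbL := h.beta_L s hΛ hΘ l t
  set β : G → ℂ := Φ l t - Φ o t with hβ
  have h1b := inner_conj_int (n := -1) (by rw [hb0]; norm_num : classInner β 1 = _)
  have hXb := inner_symm_one hbX
  have h1X := inner_symm_zero s.X1
  have hXX := signed_self s.sX
  refine ⟨generalized_sub (generalized_add hg (generalized_signed signedIrr_one))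
    (generalized_signed s.sX), ?_, ?_, ?_, ?_, ?_⟩
  · simp only [classInner_add_left, classInner_add_right, classInner_sub_left,
      classInner_sub_right, hbb, hb0, h1b, hbX, hXb, h1X, s.X1, hXX, one_one]
    norm_num
  · simp only [classInner_add_left, classInner_sub_left, hb0, one_one, s.X1]
    norm_num
  · simp only [classInner_add_left, classInner_sub_left, hbX, h1X, hXX]
    norm_num
  · intro t'
    simp only [classInner_add_left, classInner_sub_left, hbL t', inner_symm_zero (s.L1 t'),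
      s.XL t']
    norm_num
  · rw [Pi.sub_apply, Pi.add_apply, hb1, Pi.one_apply, zero_add]

theorem R_R [Fintype Λ] [Fintype Θ] (h : Family o Φ) {X : G → ℂ} {L : Θ → G → ℂ}
    (s : Split o Φ X L) (hΛ : 4 ≤ Fintype.card Λ) (hΘ : 2 ≤ Fintype.card Θ) {l l' : Λ}
    (hl : l ≠ o) (hl' : l' ≠ o) (hll : l ≠ l') (t : Θ) :
    classInner (Φ l t - Φ o t + 1 - X) (Φ l' t - Φ o t + 1 - X) = 0 := by
  obtain ⟨hg, hb1, hbb, hb0, -⟩ := h.beta_basic s hl t
  obtain ⟨hg', hb1', hbb', hb0', -⟩ := h.beta_basic s hl' t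
  have hbX : classInner (Φ l t - Φ o t) X = 1 := by
    rw [classInner_sub_left, h.phi_X s hΛ hΘ l t, h.phi_X s hΛ hΘ o t, if_neg hl, if_pos rfl]
    norm_num
  have hbX' : classInner (Φ l' t - Φ o t) X = 1 := by
    rw [classInner_sub_left, h.phi_X s hΛ hΘ l' t, h.phi_X s hΛ hΘ o t, if_neg hl', if_pos rfl]
    norm_num
  have hbb2 := h.beta_beta hl hl' hll t
  set β : G → ℂ := Φ l t - Φ o t with hβ
  set β' : G → ℂ := Φ l' t - Φ o t with hβ'
  have h1b' := inner_conj_int (n := -1) (by rw [hb0']; norm_num : classInner β' 1 = _)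
  have hXb' := inner_symm_one hbX'
  have h1X := inner_symm_zero s.X1
  simp only [classInner_add_left, classInner_add_right, classInner_sub_left,
    classInner_sub_right, hbb2, hb0, h1b', hbX, hXb', h1X, s.X1, signed_self s.sX, one_one]
  norm_num

/-- `X` is real. -/
theorem cj_X (h : Family o Φ) {X : G → ℂ} {L : Θ → G → ℂ} (s : Split o Φ X L) (t : Θ)
    (hconjo : ∃ t', ∀ g, conj (Φ o t g) = Φ o t' g) : cj X = X := by
  obtain ⟨t', ht'⟩ := hconjo
  have h1 : cj (Φ o t) = Φ o t' := funext ht'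
  rw [s.eq t, s.eq t', cj_add, cj_sub, cj_one] at h1
  have h2 : -cj X + cj (L t) = -X + L t' := by
    have := congrArg (fun z : G → ℂ => z - 1) h1
    calc -cj X + cj (L t) = (1 - cj X + cj (L t)) - 1 := by abel
      _ = (1 - X + L t') - 1 := this
      _ = -X + L t' := by abel
  have sc := signed_cj s.sX
  have h3 : classInner (cj X) X - classInner (cj X) (L t') = 1 := by
    have h4 : classInner (cj X) (-cj X + cj (L t)) = -1 := by
      rw [classInner_add_right, classInner_neg_right, signed_self sc, inner_cj, s.XL, map_zero,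
        add_zero]
    rw [h2, classInner_add_right, classInner_neg_right] at h4
    linear_combination -h4
  rcases signed_inner sc s.sX with h4 | h4 | h4
  · exfalso
    rw [h4] at h3
    have h5 : cj X = -L t' := by
      have h6 : classInner (cj X) (-L t') = 1 := by
        rw [classInner_neg_right]
        linear_combination h3
      exact signed_eq_of_inner_one sc (signed_neg (s.sL t')) h6
    have h6 : X 1 = -L t' 1 := by
      rw [← cj_at_one s.sX, h5, Pi.neg_apply]
    have h7 := congrFun (s.eq t') 1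
    simp only [Pi.add_apply, Pi.sub_apply, Pi.one_apply, h.at_one] at h7
    obtain ⟨n, hn⟩ := signed_apply_one s.sX
    have h8 : ((2 * n : ℤ) : ℂ) = ((1 : ℤ) : ℂ) := by
      push_cast
      rw [← hn]
      linear_combination h6 + h7
    have h9 : 2 * n = 1 := by exact_mod_cast h8
    omega
  · exact h4
  · exfalso
    rw [h4, classInner_neg_left, classInner_neg_left, signed_self s.sX, s.XL] at h3
    norm_num at h3

theorem exists_YVW_aux [Fintype Λ] [Fintype Θ] (h : Family o Φ) {X : G → ℂ} {L : Θ → G → ℂ}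
    (s : Split o Φ X L) (hΛ : 4 ≤ Fintype.card Λ) (hΘ : 2 ≤ Fintype.card Θ) {i j : Λ}
    (hi : i ≠ o) (hj : j ≠ o) (hij : i ≠ j) (t₀ : Θ)
    {Ψ : G → ℂ} (hΨg : IsGeneralizedCharacter G Ψ) (hΨ1 : Ψ 1 = 0) (hΨΨ : classInner Ψ Ψ = 3)
    (hΨX : classInner Ψ X = 0) (hΨR : classInner Ψ (Φ i t₀ - Φ o t₀ + 1 - X) = 1)
    (hΨR' : classInner Ψ (Φ j t₀ - Φ o t₀ + 1 - X) = -1)
    (hRc : cj (Φ i t₀ - Φ o t₀ + 1 - X) = Φ j t₀ - Φ o t₀ + 1 - X) :
    ∃ Y V W : G → ℂ, SignedIrr Y ∧ SignedIrr V ∧ SignedIrr W ∧ classInner Y V = 0 ∧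
      Φ i t₀ - Φ o t₀ + 1 - X = Y - V ∧ Ψ = Y + cj V - W := by
  obtain ⟨hRg, hRR, -, -, -, -⟩ := R_facts h s hΛ hΘ hi t₀
  have hRR' := R_R h s hΛ hΘ hi hj hij t₀
  obtain ⟨Y₀, V₀, hY₀, hV₀, hYV₀, hR₀⟩ := decomp_two hRg hRR
  -- normalise so that `(Ψ, Y) = 1`, `(Ψ, V) = 0`
  have main : ∀ Y V : G → ℂ, SignedIrr Y → SignedIrr V → classInner Y V = 0 →
      Φ i t₀ - Φ o t₀ + 1 - X = Y - V → classInner Ψ Y = 1 → classInner Ψ V = 0 →
      ∃ Y V W : G → ℂ, SignedIrr Y ∧ SignedIrr V ∧ SignedIrr W ∧ classInner Y V = 0 ∧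
        Φ i t₀ - Φ o t₀ + 1 - X = Y - V ∧ Ψ = Y + cj V - W := by
    intro Y V hY hV hYV hR hΨY hΨV
    have hcY := signed_cj hY
    have hcV := signed_cj hV
    have hR' : Φ j t₀ - Φ o t₀ + 1 - X = cj Y - cj V := by rw [← hRc, hR, cj_sub]
    have hcYV : classInner (cj Y) (cj V) = 0 := by rw [inner_cj, hYV, map_zero]
    rw [hR, hR'] at hRR'
    obtain ⟨d1, d2, d3, d4⟩ := disjoint hY hV hcY hcV hYV hcYV hRR'
      (by rw [cj_at_one hY, cj_at_one hV])
    obtain ⟨a, ha⟩ := inner_int hΨg hcY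
    obtain ⟨b, hb⟩ := inner_int hΨg hcV
    have hab : a - b = -1 := by
      have h1 : ((a - b : ℤ) : ℂ) = ((-1 : ℤ) : ℂ) := by
        push_cast
        rw [← ha, ← hb, ← classInner_sub_right, ← hR', hΨR']
      exact_mod_cast h1
    have hB := bessel_three (f := Ψ) (signed_self hY) (signed_self hcY) (signed_self hcV) d1 d2
      hcYV (N := 3) (a := 1) (by rw [hΨΨ]; norm_num) (by rw [hΨY]; norm_num) ha hb
    have hBn := norm_nonneg_int hB
    have hb01 : b = 0 ∨ b = 1 := by
      have ha' : a = b - 1 := by omega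
      subst ha'
      have h1 : b < 2 := by nlinarith
      have h2 : -1 < b := by nlinarith
      omega
    have e1 := inner_symm_one hΨY
    rcases hb01 with rfl | rfl
    · -- `Ψ = Y - conj Y + W'`
      exfalso
      have ha1 : a = -1 := by omega
      subst ha1
      have hW : SignedIrr (Ψ - Y + cj Y) := by
        refine signed_of_norm_one (generalized_add (generalized_sub hΨg (generalized_signed hY))
          (generalized_signed hcY)) ?_
        have e2 := inner_conj_int ha
        simp only [classInner_add_left, classInner_add_right, classInner_sub_left,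
          classInner_sub_right, hΨΨ, hΨY, e1, ha, e2, signed_self hY, signed_self hcY, d1,
          inner_symm_zero d1]
        norm_num
      apply hW.apply_one_ne_zero
      rw [Pi.add_apply, Pi.sub_apply, hΨ1, cj_at_one hY]
      ring
    · have ha0 : a = 0 := by omega
      subst ha0
      refine ⟨Y, V, -(Ψ - Y - cj V), hY, hV, ?_, hYV, hR, by abel⟩
      refine signed_neg (signed_of_norm_one (generalized_sub (generalized_sub hΨg
        (generalized_signed hY)) (generalized_signed hcV)) ?_)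
      have e2 := inner_conj_int hb
      simp only [classInner_sub_left, classInner_sub_right, hΨΨ, hΨY, e1, hb, e2, signed_self hY,
        signed_self hcV, d2, inner_symm_zero d2]
      norm_num
  obtain ⟨a, ha⟩ := inner_int hΨg hY₀
  obtain ⟨b, hb⟩ := inner_int hΨg hV₀
  have hab : a - b = 1 := by
    have h1 : ((a - b : ℤ) : ℂ) = ((1 : ℤ) : ℂ) := by
      push_cast
      rw [← ha, ← hb, ← classInner_sub_right, ← hR₀, hΨR]
    exact_mod_cast h1
  obtain ⟨-, -, -, hRX, -, -⟩ := R_facts h s hΛ hΘ hi t₀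
  rw [hR₀] at hRX
  obtain ⟨hYX, hVX⟩ := inner_eq_zero_of_sub hY₀ hV₀ s.sX hYV₀ hRX
  have hB := bessel_three (f := Ψ) (signed_self hY₀) (signed_self hV₀) (signed_self s.sX) hYV₀
    hYX hVX (N := 3) (by rw [hΨΨ]; norm_num) ha hb (c := 0) (by rw [hΨX]; norm_num)
  have hBn := norm_nonneg_int hB
  have hb' : b = a - 1 := by omega
  subst hb'
  have ha01 : a = 0 ∨ a = 1 := by
    have h1 : a < 2 := by nlinarith
    have h2 : -1 < a := by nlinarith
    omega
  rcases ha01 with rfl | rfl
  · refine main (-V₀) (-Y₀) (signed_neg hV₀) (signed_neg hY₀) ?_ ?_ ?_ ?_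
    · rw [classInner_neg_left, classInner_neg_right, inner_symm_zero hYV₀, neg_zero, neg_zero]
    · rw [hR₀]; abel
    · rw [classInner_neg_right, hb]; norm_num
    · rw [classInner_neg_right, ha]; norm_num
  · exact main Y₀ V₀ hY₀ hV₀ hYV₀ hR₀ (by rw [ha]; norm_num) (by rw [hb]; norm_num)

/-- `Ψ` is orthogonal to `X`. -/
theorem inner_X_eq_zero [Fintype Λ] [Fintype Θ] (h : Family o Φ) {X : G → ℂ} {L : Θ → G → ℂ}
    (s : Split o Φ X L) (hΘ : 2 ≤ Fintype.card Θ)
    {Ψ : G → ℂ} (hΨg : IsGeneralizedCharacter G Ψ) (hΨ1 : Ψ 1 = 0) (hΨΨ : classInner Ψ Ψ = 3)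
    (hΨo : classInner Ψ 1 = 0) (hΨΦ : ∀ t, classInner Ψ (Φ o t) = 0) : classInner Ψ X = 0 := by
  obtain ⟨t₀, t₁, h01⟩ : ∃ t₀ t₁ : Θ, t₀ ≠ t₁ :=
    (Fintype.one_lt_card_iff_nontrivial.1 (by omega)).exists_pair_ne
  obtain ⟨c, hc⟩ := inner_int hΨg s.sX
  have hL : ∀ t, classInner Ψ (L t) = c := by
    intro t
    have h1 := hΨΦ t
    rw [s.eq t, classInner_add_right, classInner_sub_right, hΨo, hc] at h1
    linear_combination h1
  have hB := bessel_three (f := Ψ) (signed_self s.sX) (signed_self (s.sL t₀))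
    (signed_self (s.sL t₁)) (s.XL t₀) (s.XL t₁) (s.LL t₀ t₁ h01) (N := 3)
    (by rw [hΨΨ]; norm_num) hc (hL t₀) (hL t₁)
  have hBn := norm_nonneg_int hB
  by_cases hc0 : c = 0
  · rw [hc, hc0]; norm_num
  exfalso
  have hc2 : 1 ≤ c ^ 2 := by
    have := Int.one_le_abs hc0
    nlinarith [sq_abs c, abs_nonneg c]
  have hz := congrFun (eq_zero_of_norm hB (by linarith)) 1
  have h0 := congrFun (s.eq t₀) 1
  have h1 := congrFun (s.eq t₁) 1
  simp only [Pi.sub_apply, Pi.smul_apply, smul_eq_mul, Pi.zero_apply, hΨ1] at hz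
  simp only [Pi.add_apply, Pi.sub_apply, Pi.one_apply, h.at_one] at h0 h1
  obtain ⟨n, hn⟩ := signed_apply_one s.sX
  have hcc : (c : ℂ) ≠ 0 := by exact_mod_cast hc0
  have h2 : (c : ℂ) * (3 * X 1 - 2) = 0 := by
    linear_combination -hz + (c : ℂ) * h0 + (c : ℂ) * h1
  have h3 := (mul_eq_zero.1 h2).resolve_left hcc
  rw [hn] at h3
  have h4 : ((3 * n : ℤ) : ℂ) = ((2 : ℤ) : ℂ) := by
    push_cast
    linear_combination h3
  have h5 : 3 * n = 2 := by exact_mod_cast h4
  omega

/-- **The main result.** -/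
theorem exists_YVW [Fintype Λ] [Fintype Θ] (h : Family o Φ) {X : G → ℂ} {L : Θ → G → ℂ}
    (s : Split o Φ X L) (hΛ : 4 ≤ Fintype.card Λ) (hΘ : 2 ≤ Fintype.card Θ) {i j : Λ}
    (hi : i ≠ o) (hj : j ≠ o) (hij : i ≠ j)
    (hconj : ∀ t g, conj ((Φ i t - Φ o t) g) = (Φ j t - Φ o t) g)
    (hconjo : ∀ t, ∃ t', ∀ g, conj (Φ o t g) = Φ o t' g)
    {Ψ : G → ℂ} (hΨg : IsGeneralizedCharacter G Ψ) (hΨ1 : Ψ 1 = 0) (hΨΨ : classInner Ψ Ψ = 3)
    (hΨo : classInner Ψ 1 = 0)
    (hΨΦ : ∀ l t, classInner Ψ (Φ l t) = (if l = i then 1 else 0) - (if l = j then 1 else 0)) :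
    ∃ Y V W : G → ℂ, SignedIrr Y ∧ SignedIrr V ∧ SignedIrr W ∧
      (∀ t, Φ i t = Φ o t - 1 + X + Y - V) ∧ (Ψ = Y + (fun g => conj (V g)) - W) ∧
      (∀ l t, classInner (Φ l t) Y = if l = i then 1 else 0) := by
  obtain ⟨t₀⟩ : Nonempty Θ := Fintype.card_pos_iff.1 (by omega)
  have hΨX := inner_X_eq_zero h s hΘ hΨg hΨ1 hΨΨ hΨo (fun t => by
    rw [hΨΦ, if_neg (Ne.symm hi), if_neg (Ne.symm hj), sub_zero])
  have hX := cj_X h s t₀ (hconjo t₀)
  have hRc : cj (Φ i t₀ - Φ o t₀ + 1 - X) = Φ j t₀ - Φ o t₀ + 1 - X := by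
    rw [cj_sub, cj_add, cj_one, hX]
    have : cj (Φ i t₀ - Φ o t₀) = Φ j t₀ - Φ o t₀ := funext (hconj t₀)
    rw [this]
  have hpair : ∀ l, classInner Ψ (Φ l t₀ - Φ o t₀ + 1 - X) =
      (if l = i then 1 else 0) - (if l = j then 1 else 0) := by
    intro l
    rw [classInner_sub_right, classInner_add_right, classInner_sub_right, hΨΦ l, hΨΦ o, hΨo, hΨX,
      if_neg (Ne.symm hi), if_neg (Ne.symm hj)]
    ring
  obtain ⟨Y, V, W, hY, hV, hW, hYV, hR, hΨ⟩ := exists_YVW_aux h s hΛ hΘ hi hj hij t₀ hΨg hΨ1 hΨΨ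
    hΨX (by rw [hpair, if_pos rfl, if_neg hij, sub_zero])
    (by rw [hpair, if_pos rfl, if_neg (Ne.symm hij)]; norm_num) hRc
  refine ⟨Y, V, W, hY, hV, hW, ?_, hΨ, ?_⟩
  · intro t
    have h1 := beta_const h i t t₀
    have h2 : Φ i t - Φ o t + 1 - X = Y - V := by rw [h1]; exact hR
    calc Φ i t = (Φ i t - Φ o t + 1 - X) + (Φ o t - 1 + X) := by abel
      _ = Y - V + (Φ o t - 1 + X) := by rw [h2]
      _ = Φ o t - 1 + X + Y - V := by abel
  · obtain ⟨hRg, hRR, hR1, hRX, hRL, hRd⟩ := R_facts h s hΛ hΘ hi t₀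
    rw [hR] at hR1 hRX hRL hRd
    have hY1 := (inner_eq_zero_of_sub hY hV signedIrr_one hYV hR1).1
    have hYX := (inner_eq_zero_of_sub hY hV s.sX hYV hRX).1
    have hYL : ∀ t, classInner Y (L t) = 0 := fun t =>
      (inner_eq_zero_of_sub hY hV (s.sL t) hYV (hRL t)).1
    have ho : ∀ t, classInner (Φ o t) Y = 0 := by
      intro t
      rw [s.eq t, classInner_add_left, classInner_sub_left, inner_symm_zero hY1,
        inner_symm_zero hYX, inner_symm_zero (hYL t)]
      ring
    intro l t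
    by_cases hl : l = o
    · rw [hl, ho, if_neg (Ne.symm hi)]
    · have h1 := beta_const h l t t₀
      have h2 : Φ l t = (Φ l t₀ - Φ o t₀ + 1 - X) + (Φ o t - 1 + X) := by
        rw [← h1]; abel
      have h3 : classInner (Φ l t₀ - Φ o t₀ + 1 - X) Y = if l = i then 1 else 0 := by
        by_cases hli : l = i
        · rw [if_pos hli, hli, hR, classInner_sub_left, signed_self hY, inner_symm_zero hYV,
            sub_zero]
        · rw [if_neg hli]
          obtain ⟨hRg', hRR', -, -, -, hRd'⟩ := R_facts h s hΛ hΘ hl t₀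
          have hRR'' := R_R h s hΛ hΘ hi hl (Ne.symm hli) t₀
          obtain ⟨P, Q, hP, hQ, hPQ, hRl⟩ := decomp_two hRg' hRR'
          rw [hRl] at hRR'' hRd'
          rw [hR] at hRR''
          rw [Pi.sub_apply] at hRd hRd'
          obtain ⟨d1, d2, -, -⟩ := disjoint hY hV hP hQ hYV hPQ hRR'' (by rw [hRd, hRd'])
          rw [hRl, classInner_sub_left, inner_symm_zero d1, inner_symm_zero d2, sub_zero]
      rw [h2, classInner_add_left, h3, classInner_add_left, classInner_sub_left, ho,
        inner_symm_zero hY1, inner_symm_zero hYX]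
      ring

end

end Cfsg.Agent.Classification.InvCent.WreathedGramTwo
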