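import Mathlib
import Cfsg.Agent.Classification.InvCent.Defs
import Cfsg.Agent.Classification.InvCent.GUTwo
import Cfsg.Agent.Classification.InvCent.InstGL
set_option linter.all false

/-!
# The instance `C = GU₂(q)/Z₀` of `CHyp` and `DetHyp`

Input: a surjective homomorphism `ψ : GU₂(q) → C` with kernel a central subgroup of odd order.
-/

set_option autoImplicit false
set_option linter.unusedSectionVars false

open Matrix

namespace Cfsg.Agent.Classification.InvCent.InstGU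

open GLTwo GUTwo

/-- The input: `ψ : GU₂(q) → C` surjective with kernel central of odd order. -/
structure Setup {F : Type*} [Field F] [Fintype F] {G : Type*} [Group G] (q : ℕ) (σ : F →+* F)
    (κ : Fˣ) (ψ : Cfsg.GU 2 F q →* G) : Prop where
  par : Par F q σ κ
  surj : Function.Surjective ψ
  ker_le : ψ.ker ≤ Subgroup.center (Cfsg.GU 2 F q)
  odd_ker : Odd (Nat.card ψ.ker)

section

variable {F : Type*} [Field F] [Fintype F] {q : ℕ} {σ : F →+* F} {κ : Fˣ} {G : Type*} [Group G]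
  {t : G} {ψ : Cfsg.GU 2 F q →* G}

theorem Setup.two_ne_zero (S : Setup q σ κ ψ) : (2 : F) ≠ 0 := S.par.two_ne_zero

/-- the determinant -/
noncomputable def dt (F : Type*) [Field F] (q : ℕ) : Cfsg.GU 2 F q →* Fˣ :=
  GeneralLinearGroup.det.comp (Cfsg.GU 2 F q).subtype

theorem dt_apply (g : Cfsg.GU 2 F q) : dt F q g = GeneralLinearGroup.det (g : GL (Fin 2) F) := rfl

theorem dt_mem (P : Par F q σ κ) (g : Cfsg.GU 2 F q) : dt F q g ∈ Nm F q := by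
  rw [P.mem_Nm, dt_apply, GeneralLinearGroup.val_det_apply, det_fin_two]
  exact P.det_norm g.2

/-- `dg a b` in `GU₂(q)` -/
noncomputable def dgU (P : Par F q σ κ) (a b : Nm F q) : Cfsg.GU 2 F q :=
  ⟨dg a.1 b.1, P.dg_mem.mpr ⟨P.mem_Nm.mp a.2, P.mem_Nm.mp b.2⟩⟩

theorem dgU_val (P : Par F q σ κ) (a b : Nm F q) : (dgU P a b : GL (Fin 2) F) = dg a.1 b.1 := rfl

theorem dgU_mul (P : Par F q σ κ) (a b a' b' : Nm F q) :
    dgU P a b * dgU P a' b' = dgU P (a * a') (b * b') := Subtype.ext (dg_mul _ _ _ _)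

theorem dgU_one (P : Par F q σ κ) : dgU P 1 1 = 1 := Subtype.ext dg_one

theorem dgU_pow (P : Par F q σ κ) (a b : Nm F q) (n : ℕ) :
    dgU P a b ^ n = dgU P (a ^ n) (b ^ n) := by
  apply Subtype.ext
  rw [Subgroup.coe_pow, dgU_val, dgU_val, dg_pow]
  rfl

theorem dgU_injective (P : Par F q σ κ) {a b a' b' : Nm F q} (h : dgU P a b = dgU P a' b') :
    a = a' ∧ b = b' := by
  have h1 := dg_injective (congrArg Subtype.val h)
  exact ⟨Subtype.ext h1.1, Subtype.ext h1.2⟩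

theorem dgU_mem_center (P : Par F q σ κ) {a b : Nm F q} :
    dgU P a b ∈ Subgroup.center (Cfsg.GU 2 F q) ↔ a = b := by
  rw [P.mem_center_iff, dgU_val, dg_mem_center, Subtype.ext_iff]

theorem exists_dgU (P : Par F q σ κ) {g : Cfsg.GU 2 F q}
    (h : (g : GL (Fin 2) F) ∈ (Tor : Subgroup (GL (Fin 2) F))) :
    ∃ a b : Nm F q, g = dgU P a b := by
  obtain ⟨g, hg⟩ := g
  obtain ⟨a, b, rfl⟩ := exists_dg P.two_ne_zero h
  have h1 := P.dg_mem.mp hg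
  exact ⟨⟨a, P.mem_Nm.mpr h1.1⟩, ⟨b, P.mem_Nm.mpr h1.2⟩, rfl⟩

/-- minus one -/
noncomputable def m1 (P : Par F q σ κ) : Nm F q := ⟨-1, P.neg_one_mem⟩

theorem m1_mul (P : Par F q σ κ) : m1 P * m1 P = 1 := Subtype.ext (by
  rw [Subgroup.coe_mul, m1, neg_mul_neg, one_mul, Subgroup.coe_one])

theorem m1_ne (P : Par F q σ κ) : m1 P ≠ 1 := by
  intro h
  exact InstGL.neg_one_ne P.two_ne_zero (congrArg Subtype.val h).symm

theorem eq_of_sq (P : Par F q σ κ) {c : Nm F q} (h : c * c = 1) : c = 1 ∨ c = m1 P := by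
  have h1 : ((c : Fˣ) : F) * ((c : Fˣ) : F) = 1 := by
    have := congrArg (fun x : Nm F q => ((x : Fˣ) : F)) h
    simpa using this
  rcases mul_self_eq_one_iff.mp h1 with h2 | h2
  · left
    exact Subtype.ext (Units.ext (by rw [h2, Subgroup.coe_one, Units.val_one]))
  · right
    exact Subtype.ext (Units.ext (by rw [h2, m1, Units.val_neg, Units.val_one]))

theorem dt_dgU (P : Par F q σ κ) (a b : Nm F q) : dt F q (dgU P a b) = a * b := by
  rw [dt_apply, dgU_val, det_dg]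

/-- elements of the kernel are scalar -/
theorem Setup.exists_scalar (S : Setup q σ κ ψ) {z : Cfsg.GU 2 F q} (hz : ψ z = 1) :
    ∃ c : Nm F q, z = dgU S.par c c := by
  have h := S.ker_le (MonoidHom.mem_ker.mpr hz)
  have h' := (S.par.mem_center_iff z).mp h
  obtain ⟨a, b, rfl⟩ := exists_dgU S.par (center_le_Tor h')
  rw [dgU_mem_center] at h
  exact ⟨a, by rw [h]⟩

theorem Setup.pow_card (_S : Setup q σ κ ψ) {z : Cfsg.GU 2 F q} (hz : ψ z = 1) :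
    z ^ Nat.card ψ.ker = 1 := by
  have := pow_card_eq_one' (x := (⟨z, MonoidHom.mem_ker.mpr hz⟩ : ψ.ker))
  exact congrArg Subtype.val this

theorem Setup.eq_one_of_det (S : Setup q σ κ ψ) {z : Cfsg.GU 2 F q} (hz : ψ z = 1)
    (hd : dt F q z = 1) : z = 1 := by
  obtain ⟨c, rfl⟩ := S.exists_scalar hz
  rw [dt_dgU] at hd
  apply InstGL.eq_one_of_sq_of_odd _ S.odd_ker (S.pow_card hz)
  have : c * c = 1 := Subtype.ext hd
  rw [dgU_mul, this, dgU_one]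

theorem Setup.comm_of (S : Setup q σ κ ψ) {a b : Cfsg.GU 2 F q} (h : ψ a * ψ b = ψ b * ψ a) :
    a * b = b * a := by
  have h1 : a * b * (b * a)⁻¹ = 1 := by
    apply S.eq_one_of_det
    · rw [map_mul, map_mul, map_inv, map_mul, h, mul_inv_cancel]
    · rw [map_mul, map_mul, map_inv, map_mul, mul_comm (dt F q b), mul_inv_cancel]
  exact mul_inv_eq_one.mp h1

theorem Setup.eq_neg_one (S : Setup q σ κ ψ) (ht : orderOf t = 2) (htc : ∀ c, c * t = t * c) :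
    t = ψ (dgU S.par (m1 S.par) (m1 S.par)) := by
  have htt : t * t = 1 := by
    rw [← sq, ← ht, pow_orderOf_eq_one]
  have ht1 : t ≠ 1 := by
    intro h
    rw [h, orderOf_one] at ht
    omega
  obtain ⟨g, hg⟩ := S.surj t
  have hgc : g ∈ Subgroup.center (Cfsg.GU 2 F q) := by
    rw [Subgroup.mem_center_iff]
    intro h
    apply S.comm_of
    rw [hg]
    exact htc _
  have hgc' := (S.par.mem_center_iff g).mp hgc
  obtain ⟨a, b, rfl⟩ := exists_dgU S.par (center_le_Tor hgc')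
  rw [dgU_mem_center] at hgc
  subst hgc
  have h1 : t = ψ (dgU S.par (a ^ Nat.card ψ.ker) (a ^ Nat.card ψ.ker)) := by
    rw [← dgU_pow, map_pow, hg, InstGL.pow_odd_of_sq htt S.odd_ker]
  have h2 : (dgU S.par a a * dgU S.par a a) ^ Nat.card ψ.ker = 1 := by
    apply S.pow_card
    rw [map_mul, hg, htt]
  rw [dgU_mul, dgU_pow, ← dgU_one S.par] at h2
  have h3 := (dgU_injective S.par h2).1
  rw [← sq, ← pow_mul, mul_comm, pow_mul, sq] at h3
  rcases eq_of_sq S.par h3 with h | h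
  · exfalso
    apply ht1
    rw [h1, h, dgU_one, map_one]
  · rw [h1, h]

theorem Setup.conj_eq (_S : Setup q σ κ ψ) (a b : Cfsg.GU 2 F q) :
    ψ a * ψ b * (ψ a)⁻¹ = ψ (a * b * a⁻¹) := by
  rw [map_mul, map_mul, map_inv]

theorem Setup.card_map (_S : Setup q σ κ ψ) {K : Subgroup (Cfsg.GU 2 F q)} (h : ψ.ker ≤ K) :
    Nat.card ψ.ker * Nat.card (K.map ψ) = Nat.card K := InstGL.card_map_mul ψ K h

theorem Setup.card_ker_pos (S : Setup q σ κ ψ) : 0 < Nat.card ψ.ker := S.odd_ker.pos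

/-- scalars as a homomorphism -/
noncomputable def scN (P : Par F q σ κ) : Nm F q →* Cfsg.GU 2 F q where
  toFun c := dgU P c c
  map_one' := dgU_one P
  map_mul' a b := (dgU_mul P a a b b).symm

/-- the determinant with values in the norm one group -/
noncomputable def dtN (P : Par F q σ κ) : Cfsg.GU 2 F q →* Nm F q :=
  (dt F q).codRestrict _ (dt_mem P)

theorem dtN_val (P : Par F q σ κ) (g : Cfsg.GU 2 F q) : ((dtN P g : Nm F q) : Fˣ) = dt F q g := rfl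

theorem dtN_dgU (P : Par F q σ κ) (a b : Nm F q) : dtN P (dgU P a b) = a * b :=
  Subtype.ext (dt_dgU P a b)

/-- the scalars in the kernel -/
noncomputable def D0 (P : Par F q σ κ) (ψ : Cfsg.GU 2 F q →* G) : Subgroup (Nm F q) :=
  ψ.ker.comap (scN P)

theorem mem_D0 (P : Par F q σ κ) {c : Nm F q} : c ∈ D0 P ψ ↔ ψ (dgU P c c) = 1 := by
  rw [D0, Subgroup.mem_comap, MonoidHom.mem_ker]
  rfl

theorem Setup.card_D0 (S : Setup q σ κ ψ) : Nat.card (D0 S.par ψ) = Nat.card ψ.ker := by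
  refine Nat.card_congr (Equiv.ofBijective (fun c : D0 S.par ψ =>
    (⟨dgU S.par c.1 c.1, MonoidHom.mem_ker.mpr ((mem_D0 S.par).mp c.2)⟩ : ψ.ker)) ⟨?_, ?_⟩)
  · rintro ⟨a, ha⟩ ⟨b, hb⟩ h
    exact Subtype.ext (dgU_injective S.par (congrArg Subtype.val h)).1
  · rintro ⟨z, hz⟩
    obtain ⟨c, rfl⟩ := S.exists_scalar (MonoidHom.mem_ker.mp hz)
    exact ⟨⟨c, (mem_D0 S.par).mpr (MonoidHom.mem_ker.mp hz)⟩, rfl⟩

/-- elements of `D0` have odd order -/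
theorem Setup.pow_D0 (S : Setup q σ κ ψ) {c : Nm F q} (hc : c ∈ D0 S.par ψ) :
    c ^ Nat.card ψ.ker = 1 := by
  have h := S.pow_card ((mem_D0 S.par).mp hc)
  rw [dgU_pow, ← dgU_one S.par] at h
  exact (dgU_injective S.par h).1

/-- The number of norm-one elements of a torus. -/
theorem Setup.card_norm_one (S : Setup q σ κ ψ) (K : Subgroup (Cfsg.GU 2 F q)) (hK : ψ.ker ≤ K)
    (hdet : ∀ c : Nm F q, ∃ x ∈ K, dtN S.par x = c) (s : G)
    (hs : ∀ g ∈ K, ψ g * (s * ψ g * s⁻¹) = ψ (dgU S.par (dtN S.par g) (dtN S.par g))) :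
    Nat.card {x : K.map ψ // (x : G) * (s * x * s⁻¹) = 1} * (q + 1) = Nat.card K := by
  classical
  set W : Subgroup (Cfsg.GU 2 F q) := K ⊓ (D0 S.par ψ).comap (dtN S.par) with hW
  have hmap : K.map (dtN S.par) = ⊤ := by
    rw [eq_top_iff]
    intro c _
    obtain ⟨x, hx, hxc⟩ := hdet c
    exact ⟨x, hx, hxc⟩
  have hidx : Nat.card W * (D0 S.par ψ).index = Nat.card K := by
    have h1 : W.relIndex K = (D0 S.par ψ).index := by
      rw [hW, inf_comm, Subgroup.inf_relIndex_right, Subgroup.relIndex_comap, hmap,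
        Subgroup.relIndex_top_right]
    rw [← h1, ← Subgroup.relIndex_bot_left W, Subgroup.relIndex_mul_relIndex _ _ _ bot_le inf_le_left,
      Subgroup.relIndex_bot_left]
  have hD := (D0 S.par ψ).card_mul_index
  rw [S.par.card_Nm] at hD
  have hkW : ψ.ker ≤ W := by
    rw [hW, le_inf_iff]
    refine ⟨hK, ?_⟩
    intro z hz
    obtain ⟨c, rfl⟩ := S.exists_scalar (MonoidHom.mem_ker.mp hz)
    rw [Subgroup.mem_comap, dtN_dgU]
    exact (D0 S.par ψ).mul_mem ((mem_D0 S.par).mpr (MonoidHom.mem_ker.mp hz))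
      ((mem_D0 S.par).mpr (MonoidHom.mem_ker.mp hz))
  have hWm := S.card_map hkW
  have hsub : Nat.card {x : K.map ψ // (x : G) * (s * x * s⁻¹) = 1} = Nat.card (W.map ψ) := by
    refine Nat.card_congr (Equiv.ofBijective (fun x => (⟨x.1.1, ?_⟩ : W.map ψ)) ⟨?_, ?_⟩)
    · obtain ⟨⟨_, g, hg, rfl⟩, hx⟩ := x
      refine ⟨g, ⟨hg, ?_⟩, rfl⟩
      change ψ g * (s * ψ g * s⁻¹) = 1 at hx
      rw [hs g hg] at hx
      exact (mem_D0 S.par).mpr hx
    · rintro ⟨⟨a, ha⟩, ha'⟩ ⟨⟨b, hb⟩, hb'⟩ h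
      have : a = b := congrArg Subtype.val h
      subst this; rfl
    · rintro ⟨_, g, ⟨hg, hg2⟩, rfl⟩
      refine ⟨⟨⟨ψ g, g, hg, rfl⟩, ?_⟩, rfl⟩
      change ψ g * (s * ψ g * s⁻¹) = 1
      rw [hs g hg]
      exact (mem_D0 S.par).mp hg2
  rw [hsub]
  have hpos := S.card_ker_pos
  apply Nat.eq_of_mul_eq_mul_left hpos
  rw [← mul_assoc, hWm, ← hD, S.card_D0, ← hidx]
  ring

/-! ### The data -/

/-- the torus of order `(q+1)²` -/
noncomputable def TH (F : Type*) [Field F] (q : ℕ) : Subgroup (Cfsg.GU 2 F q) :=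
  (Tor : Subgroup (GL (Fin 2) F)).subgroupOf (Cfsg.GU 2 F q)

/-- the cyclic torus -/
noncomputable def TH' (q : ℕ) (κ : Fˣ) : Subgroup (Cfsg.GU 2 F q) :=
  (Tns (dk κ)).subgroupOf (Cfsg.GU 2 F q)

/-- the root group -/
noncomputable def UHr (q : ℕ) (σ : F →+* F) (κ : Fˣ) : Subgroup (Cfsg.GU 2 F q) :=
  (Ru σ κ).subgroupOf (Cfsg.GU 2 F q)

theorem mem_TH {g : Cfsg.GU 2 F q} :
    g ∈ TH F q ↔ (g : GL (Fin 2) F) ∈ (Tor : Subgroup (GL (Fin 2) F)) := Subgroup.mem_subgroupOf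

theorem mem_TH' {g : Cfsg.GU 2 F q} :
    g ∈ TH' q κ ↔ (g : GL (Fin 2) F) ∈ Tns (dk κ) := Subgroup.mem_subgroupOf

theorem center_le_TH (P : Par F q σ κ) : Subgroup.center (Cfsg.GU 2 F q) ≤ TH F q := by
  intro g hg
  exact mem_TH.mpr (center_le_Tor ((P.mem_center_iff g).mp hg))

theorem center_le_TH' (P : Par F q σ κ) : Subgroup.center (Cfsg.GU 2 F q) ≤ TH' q κ := by
  intro g hg
  exact mem_TH'.mpr (center_le_Tns _ ((P.mem_center_iff g).mp hg))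

/-- the data in `C` -/
noncomputable def gZ (ψ : Cfsg.GU 2 F q →* G) : Subgroup G :=
  (Subgroup.center (Cfsg.GU 2 F q)).map ψ
noncomputable def gT (ψ : Cfsg.GU 2 F q →* G) : Subgroup G := (TH F q).map ψ
noncomputable def gT' (κ : Fˣ) (ψ : Cfsg.GU 2 F q →* G) : Subgroup G := (TH' q κ).map ψ
noncomputable def gU (σ : F →+* F) (κ : Fˣ) (ψ : Cfsg.GU 2 F q →* G) : Subgroup G :=
  (UHr q σ κ).map ψ

theorem Setup.mem_gT (S : Setup q σ κ ψ) {g : Cfsg.GU 2 F q} : ψ g ∈ gT ψ ↔ g ∈ TH F q :=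
  InstGL.mem_map_iff ψ (S.ker_le.trans (center_le_TH S.par))

theorem Setup.mem_gT' (S : Setup q σ κ ψ) {g : Cfsg.GU 2 F q} : ψ g ∈ gT' κ ψ ↔ g ∈ TH' q κ :=
  InstGL.mem_map_iff ψ (S.ker_le.trans (center_le_TH' S.par))

theorem Setup.mem_gZ (S : Setup q σ κ ψ) {g : Cfsg.GU 2 F q} :
    ψ g ∈ gZ ψ ↔ g ∈ Subgroup.center (Cfsg.GU 2 F q) :=
  InstGL.mem_map_iff ψ S.ker_le

theorem Setup.card_gZ (S : Setup q σ κ ψ) : Nat.card ψ.ker * Nat.card (gZ ψ) = q + 1 := by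
  rw [← S.par.card_center]
  exact S.card_map S.ker_le

theorem Setup.card_gT (S : Setup q σ κ ψ) : Nat.card (gT ψ) = Nat.card (gZ ψ) * (q + 1) := by
  apply Nat.eq_of_mul_eq_mul_left S.card_ker_pos
  rw [← mul_assoc, S.card_gZ, gT, S.card_map (S.ker_le.trans (center_le_TH S.par)), TH,
    S.par.card_T]

theorem Setup.card_gT' (S : Setup q σ κ ψ) : Nat.card (gT' κ ψ) = Nat.card (gZ ψ) * (q - 1) := by
  apply Nat.eq_of_mul_eq_mul_left S.card_ker_pos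
  rw [← mul_assoc, S.card_gZ, gT', S.card_map (S.ker_le.trans (center_le_TH' S.par)), TH',
    S.par.card_T', S.par.card_units, mul_comm]

/-- root elements -/
noncomputable def uqU (P : Par F q σ κ) (μ : {μ : F // σ μ = -μ}) : Cfsg.GU 2 F q :=
  ⟨uq κ μ.1, P.uq_mem.mpr μ.2⟩

theorem uqU_mem (P : Par F q σ κ) (μ : {μ : F // σ μ = -μ}) : uqU P μ ∈ UHr q σ κ :=
  Subgroup.mem_subgroupOf.mpr ⟨μ.1, μ.2, rfl⟩

theorem exists_uqU (P : Par F q σ κ) {g : Cfsg.GU 2 F q} (hg : g ∈ UHr q σ κ) :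
    ∃ μ, uqU P μ = g := by
  obtain ⟨μ, hμ, h⟩ := Subgroup.mem_subgroupOf.mp hg
  exact ⟨⟨μ, hμ⟩, Subtype.ext h⟩

theorem dt_uqU (P : Par F q σ κ) (μ : {μ : F // σ μ = -μ}) : dt F q (uqU P μ) = 1 := det_uq κ μ.1

theorem Setup.injOn_uq (S : Setup q σ κ ψ) {μ ν : {μ : F // σ μ = -μ}}
    (h : ψ (uqU S.par μ) = ψ (uqU S.par ν)) : μ = ν := by
  have h1 : ψ (uqU S.par μ * (uqU S.par ν)⁻¹) = 1 := by rw [map_mul, map_inv, h, mul_inv_cancel]
  have h2 := S.eq_one_of_det h1 (by rw [map_mul, map_inv, dt_uqU, dt_uqU, inv_one, mul_one])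
  have h3 := congrArg Subtype.val (mul_inv_eq_one.mp h2)
  exact Subtype.ext (uq_injective κ h3)

theorem Setup.card_gU (S : Setup q σ κ ψ) : Nat.card (gU σ κ ψ) = q := by
  refine Eq.trans ?_ S.par.card_skew
  refine (Nat.card_congr (Equiv.ofBijective (fun μ : {μ : F // σ μ = -μ} =>
    (⟨ψ (uqU S.par μ), _, uqU_mem S.par μ, rfl⟩ : gU σ κ ψ)) ⟨?_, ?_⟩)).symm
  · intro x y h
    exact S.injOn_uq (congrArg Subtype.val h)
  · rintro ⟨_, g, hg, rfl⟩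
    obtain ⟨μ, rfl⟩ := exists_uqU S.par hg
    exact ⟨μ, rfl⟩

theorem Setup.card_G (S : Setup q σ κ ψ) : Nat.card G = Nat.card (gZ ψ) * (q * (q ^ 2 - 1)) := by
  apply Nat.eq_of_mul_eq_mul_left S.card_ker_pos
  rw [← mul_assoc, S.card_gZ, ← Subgroup.card_top (G := G),
    ← MonoidHom.range_eq_top.mpr S.surj, MonoidHom.range_eq_map, S.card_map le_top,
    Subgroup.card_top, S.par.card_GU]
  have h2 := S.par.two_le
  obtain ⟨m, rfl⟩ : ∃ m, q = m + 1 := ⟨q - 1, by omega⟩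
  rw [show (m + 1) ^ 2 - 1 = m * (m + 2) by
    rw [show (m + 1) ^ 2 = m * (m + 2) + 1 by ring, Nat.add_sub_cancel], Nat.add_sub_cancel]
  ring

end

section

variable {F : Type*} [Field F] [Fintype F] {q : ℕ} {σ : F →+* F} {κ : Fˣ} {G : Type*} [Group G]
  {t : G} {ψ : Cfsg.GU 2 F q →* G}

/-- `diag(1,-1)` -/
noncomputable def sgU (P : Par F q σ κ) : Cfsg.GU 2 F q := ⟨sg, P.sg_mem⟩

/-- the swap -/
noncomputable def wtU (P : Par F q σ κ) : Cfsg.GU 2 F q := ⟨wt, P.wt_mem⟩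

theorem sgU_eq (P : Par F q σ κ) : sgU P = dgU P 1 (m1 P) := rfl

theorem sgU_mul (P : Par F q σ κ) : sgU P * sgU P = 1 := Subtype.ext sg_mul_sg

theorem wtU_mul (P : Par F q σ κ) : wtU P * wtU P = 1 := Subtype.ext wt_mul_wt

theorem wtU_conj (P : Par F q σ κ) (a b : Nm F q) :
    wtU P * dgU P a b * (wtU P)⁻¹ = dgU P b a := Subtype.ext (wt_conj a.1 b.1)

/-- the element of `T'` with eigenvalue `a` -/
noncomputable def tpU (P : Par F q σ κ) (a : Fˣ) : Cfsg.GU 2 F q := ⟨P.tp a, P.tp_mem a⟩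

theorem tpU_mem (P : Par F q σ κ) (a : Fˣ) : tpU P a ∈ TH' q κ :=
  mem_TH'.mpr (P.tp_mem_Tns a)

theorem Setup.wt_conj_eq (S : Setup q σ κ ψ) {g : Cfsg.GU 2 F q} (hg : g ∈ TH F q) :
    ψ g * (ψ (wtU S.par) * ψ g * (ψ (wtU S.par))⁻¹) =
      ψ (dgU S.par (dtN S.par g) (dtN S.par g)) := by
  obtain ⟨a, b, rfl⟩ := exists_dgU S.par (mem_TH.mp hg)
  rw [S.conj_eq, wtU_conj, ← map_mul, dgU_mul, dtN_dgU, mul_comm b a]

theorem Setup.sg_conj_eq (S : Setup q σ κ ψ) {g : Cfsg.GU 2 F q} (hg : g ∈ TH' q κ) :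
    ψ g * (ψ (sgU S.par) * ψ g * (ψ (sgU S.par))⁻¹) =
      ψ (dgU S.par (dtN S.par g) (dtN S.par g)) := by
  rw [S.conj_eq, ← map_mul]
  congr 1
  exact Subtype.ext (mul_sg_conj (dk κ) (mem_TH'.mp hg))

theorem Setup.mem_gZ_scalar (S : Setup q σ κ ψ) (c : Nm F q) : ψ (dgU S.par c c) ∈ gZ ψ :=
  S.mem_gZ.mpr ((dgU_mem_center S.par).mpr rfl)

/-- the central involution -/
noncomputable def gt (P : Par F q σ κ) (ψ : Cfsg.GU 2 F q →* G) : G := ψ (dgU P (m1 P) (m1 P))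

/-- An element of square `1` in `T`. -/
theorem Setup.invol_T (S : Setup q σ κ ψ) {x : G} (hx : x ∈ gT ψ) (hxx : x * x = 1) :
    x = 1 ∨ x = gt S.par ψ ∨ x = ψ (sgU S.par) ∨ x = gt S.par ψ * ψ (sgU S.par) := by
  obtain ⟨g, hg, rfl⟩ := hx
  obtain ⟨a, b, rfl⟩ := exists_dgU S.par (mem_TH.mp hg)
  obtain ⟨n, hn⟩ : ∃ n, n = Nat.card ψ.ker := ⟨_, rfl⟩
  have hodd : Odd n := hn ▸ S.odd_ker
  have h1 : ψ (dgU S.par a b) = ψ (dgU S.par (a ^ n) (b ^ n)) := by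
    rw [← dgU_pow, map_pow, InstGL.pow_odd_of_sq hxx hodd]
  have h2 : (dgU S.par a b * dgU S.par a b) ^ n = 1 := by
    rw [hn]
    apply S.pow_card
    rw [map_mul, hxx]
  rw [dgU_mul, dgU_pow, ← dgU_one S.par] at h2
  obtain ⟨h3, h4⟩ := dgU_injective S.par h2
  have key : ∀ c : Nm F q, (c * c) ^ n = 1 → c ^ n = 1 ∨ c ^ n = m1 S.par := by
    intro c hc
    rw [← sq, ← pow_mul, mul_comm, pow_mul, sq] at hc
    exact eq_of_sq S.par hc
  rw [h1]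
  rcases key a h3 with ha | ha <;> rcases key b h4 with hb | hb <;> rw [ha, hb]
  · left; rw [dgU_one, map_one]
  · right; right; left; rfl
  · right; right; right
    rw [gt, ← map_mul, sgU_eq, dgU_mul, mul_one, m1_mul]
  · right; left; rfl

theorem Setup.orderOf_sg (S : Setup q σ κ ψ) : orderOf (ψ (sgU S.par)) = 2 := by
  rw [orderOf_eq_iff (by norm_num)]
  refine ⟨by rw [sq, ← map_mul, sgU_mul, map_one], ?_⟩
  intro m hm hm0
  have : m = 1 := by omega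
  rw [this, pow_one]
  intro h
  obtain ⟨c, hc⟩ := S.exists_scalar h
  rw [sgU_eq] at hc
  obtain ⟨h1, h2⟩ := dgU_injective S.par hc
  exact m1_ne S.par (h2.trans h1.symm)

theorem Setup.orderOf_gt (S : Setup q σ κ ψ) : orderOf (gt S.par ψ) = 2 := by
  have hm : dgU S.par (m1 S.par) (m1 S.par) * dgU S.par (m1 S.par) (m1 S.par) = 1 := by
    rw [dgU_mul, m1_mul, dgU_one]
  rw [orderOf_eq_iff (by norm_num)]
  refine ⟨by rw [sq, gt, ← map_mul, hm, map_one], ?_⟩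
  intro m hm' hm0
  have : m = 1 := by omega
  rw [this, pow_one]
  intro h
  have h1 := S.pow_card h
  rw [InstGL.pow_odd_of_sq hm S.odd_ker, ← dgU_one S.par] at h1
  exact m1_ne S.par (dgU_injective S.par h1).1

theorem Setup.exists_TH_det (S : Setup q σ κ ψ) (c : Nm F q) :
    ∃ x ∈ TH F q, dtN S.par x = c :=
  ⟨dgU S.par c 1, mem_TH.mpr (dg_mem_Tor S.two_ne_zero _ _), by rw [dtN_dgU, mul_one]⟩

theorem Setup.exists_TH'_det (S : Setup q σ κ ψ) (c : Nm F q) :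
    ∃ x ∈ TH' q κ, dtN S.par x = c := by
  obtain ⟨a, ha⟩ := S.par.exists_T'_det c.2
  exact ⟨tpU S.par a, tpU_mem S.par a, Subtype.ext ha⟩

theorem notMem_center {g : Cfsg.GU 2 F q} (P : Par F q σ κ)
    (h : g ∉ Subgroup.center (Cfsg.GU 2 F q)) :
    (g : GL (Fin 2) F) ∉ Subgroup.center (GL (Fin 2) F) := by
  rwa [← P.mem_center_iff]

theorem Setup.cHyp (S : Setup q σ κ ψ) :
    CHyp (gt S.par ψ) q (-1) (gZ ψ) (gT ψ) (gT' κ ψ) (gU σ κ ψ) (ψ (wtU S.par)) (ψ (sgU S.par))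
      (ψ (sgU S.par)) where
  orderOf_t := S.orderOf_gt
  odd_q := S.par.odd
  one_lt_q := by
    have := S.par.two_le
    omega
  eps := Or.inr rfl
  t_mem := S.mem_gZ_scalar _
  Z_le_T := Subgroup.map_mono (center_le_TH S.par)
  Z_le_T' := Subgroup.map_mono (center_le_TH' S.par)
  card_Z := by
    refine ⟨Nat.card ψ.ker, S.odd_ker, ?_⟩
    have h := S.card_gZ
    have h2 : ((Nat.card ψ.ker * Nat.card (gZ ψ) : ℕ) : ℤ) = ((q + 1 : ℕ) : ℤ) := by rw [h]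
    push_cast at h2
    linear_combination h2
  card_T := by
    rw [S.card_gT]
    push_cast
    ring
  card_T' := by
    rw [S.card_gT']
    have h := S.par.two_le
    rw [Nat.cast_mul, Nat.cast_sub (by omega)]
    push_cast
    ring
  card_U := S.card_gU
  card_C := S.card_G
  Z_central := by
    rintro _ ⟨z, hz, rfl⟩ c
    obtain ⟨g, rfl⟩ := S.surj c
    rw [← map_mul, ← map_mul, Subgroup.mem_center_iff.mp hz g]
  T_comm := by
    rintro _ ⟨x, hx, rfl⟩ _ ⟨y, hy, rfl⟩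
    rw [← map_mul, ← map_mul]
    congr 1
    exact Subtype.ext (Tor_comm S.two_ne_zero (mem_TH.mp hx) (mem_TH.mp hy))
  T'_cyclic := by
    have : IsCyclic (TH' q κ) := S.par.isCyclic_T'
    exact isCyclic_of_surjective (ψ.subgroupMap (TH' q κ)) (ψ.subgroupMap_surjective (TH' q κ))
  cent_T := by
    rintro _ ⟨x, hx, rfl⟩ hxz c hcx
    obtain ⟨g, rfl⟩ := S.surj c
    rw [S.mem_gZ] at hxz
    exact S.mem_gT.mpr (mem_TH.mpr (mem_Tor_of_comm S.two_ne_zero (mem_TH.mp hx)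
      (notMem_center S.par hxz) (congrArg Subtype.val (S.comm_of hcx))))
  cent_T' := by
    rintro _ ⟨x, hx, rfl⟩ hxz c hcx
    obtain ⟨g, rfl⟩ := S.surj c
    rw [S.mem_gZ] at hxz
    exact S.mem_gT'.mpr (mem_TH'.mpr (mem_Tns_of_comm (dk κ) (mem_TH'.mp hx)
      (notMem_center S.par hxz) (congrArg Subtype.val (S.comm_of hcx))))
  U_comm := by
    rintro _ ⟨x, hx, rfl⟩ _ ⟨y, hy, rfl⟩
    obtain ⟨μ, rfl⟩ := exists_uqU S.par hx
    obtain ⟨ν, rfl⟩ := exists_uqU S.par hy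
    rw [← map_mul, ← map_mul]
    congr 1
    apply Subtype.ext
    change uq κ μ.1 * uq κ ν.1 = uq κ ν.1 * uq κ μ.1
    rw [uq_mul, uq_mul, add_comm]
  cent_U := by
    rintro _ ⟨x, hx, rfl⟩ hx1 c hcx
    obtain ⟨μ, rfl⟩ := exists_uqU S.par hx
    obtain ⟨g, rfl⟩ := S.surj c
    have hμ0 : μ.1 ≠ 0 := by
      intro h0
      apply hx1
      have : uqU S.par μ = 1 := Subtype.ext (by
        change uq κ μ.1 = 1
        rw [h0, uq_zero])
      rw [this, map_one]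
    obtain ⟨z, hz, ν, hν, h⟩ := S.par.exists_of_comm_uq hμ0 g.2
      (congrArg Subtype.val (S.comm_of hcx))
    refine ⟨ψ (dgU S.par ⟨z, hz⟩ ⟨z, hz⟩), S.mem_gZ_scalar _, ψ (uqU S.par ⟨ν, hν⟩),
      ⟨_, uqU_mem S.par _, rfl⟩, ?_⟩
    rw [← map_mul]
    congr 1
    exact Subtype.ext h
  s_sq := by rw [← map_mul, wtU_mul, map_one]
  s_notMem := by
    rw [S.mem_gT, mem_TH]
    exact InstGL.wt_notMem S.two_ne_zero
  s_conj := by
    rintro _ ⟨x, hx, rfl⟩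
    obtain ⟨a, b, rfl⟩ := exists_dgU S.par (mem_TH.mp hx)
    rw [S.conj_eq, wtU_conj, S.mem_gT]
    exact mem_TH.mpr (dg_mem_Tor S.two_ne_zero _ _)
  s_norm := by
    rintro _ ⟨x, hx, rfl⟩
    rw [S.wt_conj_eq hx]
    exact S.mem_gZ_scalar _
  fus_T := by
    rintro _ ⟨x, hx, rfl⟩ hxz c hcx
    obtain ⟨g, rfl⟩ := S.surj c
    rw [S.mem_gZ] at hxz
    rw [S.conj_eq, S.mem_gT] at hcx
    rcases fus_Tor S.two_ne_zero (mem_TH.mp hx) (notMem_center S.par hxz) (mem_TH.mp hcx) with h | h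
    · exact Or.inl (S.mem_gT.mpr (mem_TH.mpr h))
    · right
      rw [← map_mul]
      exact S.mem_gT.mpr (mem_TH.mpr h)
  card_T₀ := by
    have h := S.card_norm_one (TH F q) (S.ker_le.trans (center_le_TH S.par)) S.exists_TH_det
      (ψ (wtU S.par)) (fun g hg => S.wt_conj_eq hg)
    rw [TH, S.par.card_T, ← TH] at h
    have h' := Nat.eq_of_mul_eq_mul_right (by omega) h
    rw [gT, h']
    push_cast
    ring
  s'_sq := by rw [← map_mul, sgU_mul, map_one]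
  s'_notMem := by
    rw [S.mem_gT', mem_TH']
    exact InstGL.sg_notMem S.two_ne_zero (dk κ)
  s'_conj := by
    rintro _ ⟨x, hx, rfl⟩
    rw [S.conj_eq, S.mem_gT', mem_TH']
    exact sg_conj_mem (dk κ) (mem_TH'.mp hx)
  s'_norm := by
    rintro _ ⟨x, hx, rfl⟩
    rw [S.sg_conj_eq hx]
    exact S.mem_gZ_scalar _
  fus_T' := by
    rintro _ ⟨x, hx, rfl⟩ hxz c hcx
    obtain ⟨g, rfl⟩ := S.surj c
    rw [S.mem_gZ] at hxz
    rw [S.conj_eq, S.mem_gT'] at hcx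
    rcases fus_Tns S.two_ne_zero (dk κ) (mem_TH'.mp hx) (notMem_center S.par hxz)
      (mem_TH'.mp hcx) with h | h
    · exact Or.inl (S.mem_gT'.mpr (mem_TH'.mpr h))
    · right
      rw [← map_mul]
      exact S.mem_gT'.mpr (mem_TH'.mpr h)
  card_T'₀ := by
    have h := S.card_norm_one (TH' q κ) (S.ker_le.trans (center_le_TH' S.par)) S.exists_TH'_det
      (ψ (sgU S.par)) (fun g hg => S.sg_conj_eq hg)
    rw [TH', S.par.card_T', S.par.card_units, ← TH'] at h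
    have h' := Nat.eq_of_mul_eq_mul_right (by omega) h
    have h2 := S.par.two_le
    rw [gT', h', Nat.cast_sub (by omega)]
    push_cast
    ring
  fus_U := by
    rintro _ ⟨x, hx, rfl⟩ _ ⟨y, hy, rfl⟩ hx1 hy1
    obtain ⟨μ, rfl⟩ := exists_uqU S.par hx
    obtain ⟨ν, rfl⟩ := exists_uqU S.par hy
    have h0 : ∀ μ : {μ : F // σ μ = -μ}, ψ (uqU S.par μ) ≠ 1 → μ.1 ≠ 0 := by
      intro μ h1 h0
      apply h1
      have : uqU S.par μ = 1 := Subtype.ext (by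
        change uq κ μ.1 = 1
        rw [h0, uq_zero])
      rw [this, map_one]
    obtain ⟨a, ha⟩ := S.par.exists_conj_uq μ.2 ν.2 (h0 μ hx1) (h0 ν hy1)
    refine ⟨ψ (tpU S.par a), ?_⟩
    rw [S.conj_eq]
    congr 1
    exact Subtype.ext ha
  exhaust := by
    intro c
    obtain ⟨g, rfl⟩ := S.surj c
    obtain ⟨k, hk, h | h | ⟨z, hz, ν, hν, h⟩⟩ := S.par.exhaust g.2
    · refine ⟨ψ ⟨k, hk⟩, Or.inl ?_⟩
      rw [S.conj_eq]
      exact S.mem_gT.mpr (mem_TH.mpr h)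
    · refine ⟨ψ ⟨k, hk⟩, Or.inr (Or.inl ?_)⟩
      rw [S.conj_eq]
      exact S.mem_gT'.mpr (mem_TH'.mpr h)
    · refine ⟨ψ ⟨k, hk⟩, Or.inr (Or.inr ⟨ψ (dgU S.par ⟨z, hz⟩ ⟨z, hz⟩), S.mem_gZ_scalar _,
        ψ (uqU S.par ⟨ν, hν⟩), ⟨_, uqU_mem S.par _, rfl⟩, ?_⟩)⟩
      rw [S.conj_eq, ← map_mul]
      congr 1
      exact Subtype.ext h
  u_mem := S.mem_gT.mpr (mem_TH.mpr (dg_mem_Tor S.two_ne_zero _ _))
  orderOf_u := S.orderOf_sg
  u_ne := by
    intro h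
    have h1 : ψ (sgU S.par * (dgU S.par (m1 S.par) (m1 S.par))⁻¹) = 1 := by
      rw [map_mul, map_inv, h, gt, mul_inv_cancel]
    obtain ⟨c, hc⟩ := S.exists_scalar h1
    rw [mul_inv_eq_iff_eq_mul, dgU_mul, sgU_eq] at hc
    obtain ⟨h3, h4⟩ := dgU_injective S.par hc
    exact m1_ne S.par (h4.trans h3.symm)
  s_u := by
    rw [S.conj_eq, sgU_eq, wtU_conj, gt, ← map_mul, dgU_mul, mul_one, m1_mul]
  invol_T := fun x hx hxx => S.invol_T hx hxx

/-- `T'` normalizes `U`. -/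
theorem Setup.norm_U (S : Setup q σ κ ψ) :
    ∀ τ ∈ gT' κ ψ, ∀ x ∈ gU σ κ ψ, τ * x * τ⁻¹ ∈ gU σ κ ψ := by
  rintro _ ⟨g, hg, rfl⟩ _ ⟨x, hx, rfl⟩
  obtain ⟨μ, rfl⟩ := exists_uqU S.par hx
  obtain ⟨a, b, hab, h⟩ := S.par.exists_tq g.2 (mem_TH'.mp hg)
  have hc : σ ((a : F) * (b : F)⁻¹ * μ.1) = -((a : F) * (b : F)⁻¹ * μ.1) := by
    have hba : σ a * (b : F) = 1 := by
      have := congrArg σ hab
      rwa [map_mul, S.par.invol, map_one] at this
    have hb : (b : F) ≠ 0 := b.ne_zero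
    have ha : (a : F) ≠ 0 := a.ne_zero
    have hsb : σ (b : F) ≠ 0 := right_ne_zero_of_mul_eq_one hab
    rw [map_mul, map_mul, map_inv₀, μ.2]
    have e1 : σ (a : F) = (b : F)⁻¹ := eq_inv_of_mul_eq_one_left hba
    have e2 : (σ (b : F))⁻¹ = a := inv_eq_of_mul_eq_one_left hab
    rw [e1, e2]
    ring
  rw [S.conj_eq]
  refine ⟨uqU S.par ⟨_, hc⟩, uqU_mem S.par _, ?_⟩
  congr 1
  rw [eq_mul_inv_iff_mul_eq]
  apply Subtype.ext
  change uq κ _ * (g : GL (Fin 2) F) = (g : GL (Fin 2) F) * uq κ μ.1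
  rw [h, tq_mul_uq]

/-! ### The linear character -/

/-- A character of a cyclic group of order `r k`, `k` odd, of order `r`. -/
theorem exists_beta {N : Type*} [CommGroup N] [Finite N] [IsCyclic N] {z : N} (hz : z * z = 1)
    (hz1 : z ≠ 1) {r k : ℕ} (hk : Odd k) (hrk : Nat.card N = r * k) :
    ∃ β : N →* ℂˣ, (∀ c, β c ^ r = 1) ∧ β z = -1 ∧ ∃ c, orderOf (β c) = r := by
  classical
  have hN : 0 < Nat.card N := Nat.card_pos
  have hr : 0 < r := by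
    rcases Nat.eq_zero_or_pos r with h | h
    · rw [h, zero_mul] at hrk; omega
    · exact h
  obtain ⟨g, hg⟩ := IsCyclic.exists_generator (α := N)
  have hgN : orderOf g = Nat.card N := orderOf_eq_card_of_forall_mem_zpowers hg
  have hζ := Complex.isPrimitiveRoot_exp r hr.ne'
  obtain ⟨ζ, hζ'⟩ : ∃ ζ : ℂˣ, IsPrimitiveRoot ζ r := by
    refine ⟨(hζ.isUnit hr.ne').unit, ?_⟩
    exact IsPrimitiveRoot.coe_units_iff.mp (by simpa using hζ)
  have hord : orderOf ζ = r := hζ'.eq_orderOf.symm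
  have hdvd : orderOf ζ ∣ orderOf g := by
    rw [hord, hgN, hrk]
    exact dvd_mul_right _ _
  obtain ⟨β, hβ⟩ : ∃ β : N →* ℂˣ, β g = ζ :=
    ⟨monoidHomOfForallMemZpowers hg hdvd, monoidHomOfForallMemZpowers_apply_gen hg hdvd⟩
  have h1 : ∀ c, β c ^ r = 1 := by
    intro c
    obtain ⟨j, rfl⟩ := hg c
    have hζ1 : ζ ^ r = 1 := hζ'.pow_eq_one
    change β (g ^ j) ^ r = 1
    rw [map_zpow, hβ, ← zpow_natCast, ← _root_.zpow_mul, mul_comm, _root_.zpow_mul, zpow_natCast,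
      hζ1, _root_.one_zpow]
  refine ⟨β, h1, ?_, g, by rw [hβ, hord]⟩
  have hsq : β z * β z = 1 := by rw [← map_mul, hz, map_one]
  have hne : β z ≠ 1 := by
    intro h7
    have hker := InstGL.card_map_mul β ⊤ le_top
    rw [← MonoidHom.range_eq_map, Subgroup.card_top] at hker
    have hrange : β.range = Subgroup.zpowers (β g) := by
      ext y
      constructor
      · rintro ⟨c, rfl⟩
        obtain ⟨j, rfl⟩ := hg c
        exact ⟨j, by rw [map_zpow]⟩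
      · rintro ⟨j, rfl⟩
        exact ⟨g ^ j, by rw [map_zpow]⟩
    rw [hrange, Nat.card_zpowers, hβ, hord, hrk, mul_comm r k] at hker
    have hker2 := Nat.eq_of_mul_eq_mul_right hr hker
    have h8 : (⟨z, h7⟩ : β.ker) ^ k = 1 := by
      rw [← hker2]
      exact pow_card_eq_one'
    have h9 : z ^ k = 1 := congrArg Subtype.val h8
    rw [InstGL.pow_odd_of_sq hz hk] at h9
    exact hz1 h9
  have h11 := congrArg (fun x : ℂˣ => (x : ℂ)) hsq
  simp only [Units.val_mul, Units.val_one] at h11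
  rcases mul_self_eq_one_iff.mp h11 with h | h
  · exact absurd (Units.ext (by rw [h, Units.val_one])) hne
  · exact Units.ext (by rw [h, Units.val_neg, Units.val_one])

theorem Setup.beta_odd (S : Setup q σ κ ψ) {r : ℕ} {m : ℕ} (hr : r = 2 ^ m) {β : Nm F q →* ℂˣ}
    (hβ : ∀ c, β c ^ r = 1) {c : Nm F q} (hc : c ∈ D0 S.par ψ) : β c = 1 := by
  have h1 : β c ^ Nat.card ψ.ker = 1 := by rw [← map_pow, S.pow_D0 hc, map_one]
  rw [← orderOf_eq_one_iff]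
  refine Nat.eq_one_of_dvd_coprimes ?_ (orderOf_dvd_of_pow_eq_one h1)
    (orderOf_dvd_of_pow_eq_one (hβ c))
  rw [hr]
  exact (Nat.Coprime.pow_right _ (Nat.coprime_two_right.mpr S.odd_ker))

theorem Setup.exists_b (S : Setup q σ κ ψ) {r : ℕ} {m : ℕ} (hr : r = 2 ^ m) {β : Nm F q →* ℂˣ}
    (hβ : ∀ c, β c ^ r = 1) :
    ∃ b : G →* ℂˣ, ∀ g : Cfsg.GU 2 F q, b (ψ g) = β (dtN S.par g) := by
  have hker : ψ.ker ≤ (β.comp (dtN S.par)).ker := by
    intro z hz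
    have hz' : ψ z = 1 := MonoidHom.mem_ker.mp hz
    rw [MonoidHom.mem_ker, MonoidHom.comp_apply]
    obtain ⟨c, rfl⟩ := S.exists_scalar hz'
    rw [dtN_dgU, map_mul, S.beta_odd hr hβ ((mem_D0 S.par).mpr hz'), mul_one]
  refine ⟨MonoidHom.liftOfSurjective ψ S.surj ⟨_, hker⟩, ?_⟩
  intro g
  have := MonoidHom.liftOfRightInverse_comp_apply ψ
    (Function.surjInv S.surj) (Function.rightInverse_surjInv S.surj) ⟨_, hker⟩ g
  exact this

theorem Setup.detHyp (S : Setup q σ κ ψ) {r k m : ℕ} (hk : Odd k)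
    (hrk : q + 1 = r * k) (hr : r = 2 ^ m) (hm : 1 ≤ m) :
    ∃ b : G →* ℂˣ, DetHyp q (-1) (gT ψ) (gT' κ ψ) (gU σ κ ψ) (ψ (wtU S.par)) (ψ (sgU S.par))
      (ψ (sgU S.par)) r b := by
  obtain ⟨β, hβ, hβ1, c₀, hc₀⟩ := exists_beta (m1_mul S.par) (m1_ne S.par) hk
    (by rw [S.par.card_Nm, hrk])
  obtain ⟨b, hb⟩ := S.exists_b hr hβ
  refine ⟨b, ⟨m, hm, hr⟩, ⟨k, by exact_mod_cast hk, ?_⟩, ?_, ?_, ?_, ?_, ?_, ?_, ?_⟩
  · have h2 : ((q + 1 : ℕ) : ℤ) = ((r * k : ℕ) : ℤ) := by rw [hrk]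
    push_cast at h2
    linear_combination h2
  · intro c
    obtain ⟨g, rfl⟩ := S.surj c
    rw [hb, hβ]
  · rw [hb, sgU_eq, dtN_dgU, one_mul, hβ1]
  · rintro _ ⟨x, hx, rfl⟩
    obtain ⟨μ, rfl⟩ := exists_uqU S.par hx
    have : dtN S.par (uqU S.par μ) = 1 := Subtype.ext (dt_uqU S.par μ)
    rw [hb, this, map_one]
  · rintro _ ⟨g, hg, rfl⟩ h1
    rw [hb]
    rw [S.wt_conj_eq hg] at h1
    exact S.beta_odd hr hβ ((mem_D0 S.par).mpr h1)
  · rintro _ ⟨g, hg, rfl⟩ h1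
    rw [hb]
    rw [S.sg_conj_eq hg] at h1
    exact S.beta_odd hr hβ ((mem_D0 S.par).mpr h1)
  · obtain ⟨x, hx, hxc⟩ := S.exists_TH_det c₀
    exact ⟨ψ x, ⟨x, hx, rfl⟩, by rw [hb, hxc, hc₀]⟩
  · obtain ⟨x, hx, hxc⟩ := S.exists_TH'_det c₀
    exact ⟨ψ x, ⟨x, hx, rfl⟩, by rw [hb, hxc, hc₀]⟩

/-- The setup from an isomorphism `C = GU₂(q)/Z₀`. -/
theorem exists_setup (hq : Odd q) (hF : Fintype.card F = q ^ 2) (Z₀ : Subgroup (Cfsg.GU 2 F q))
    [Z₀.Normal] (hZc : Z₀ ≤ Subgroup.center (Cfsg.GU 2 F q)) (hZo : Odd (Nat.card Z₀))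
    (φ : G ≃* (Cfsg.GU 2 F q ⧸ Z₀)) :
    ∃ (σ : F →+* F) (κ : Fˣ) (ψ : Cfsg.GU 2 F q →* G), Setup q σ κ ψ ∧ ψ.ker = Z₀ ∧
      ∀ g, φ (ψ g) = QuotientGroup.mk g := by
  obtain ⟨σ, κ, P⟩ := exists_par hF hq
  let ψ : Cfsg.GU 2 F q →* G := φ.symm.toMonoidHom.comp (QuotientGroup.mk' Z₀)
  have hψ : ∀ g, ψ g = φ.symm (QuotientGroup.mk g) := fun g => rfl
  have hker : ψ.ker = Z₀ := by
    ext g
    rw [MonoidHom.mem_ker, hψ, map_eq_one_iff _ φ.symm.injective, QuotientGroup.eq_one_iff]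
  have hsurj : Function.Surjective ψ := by
    intro c
    obtain ⟨g, hg⟩ := QuotientGroup.mk_surjective (φ c)
    refine ⟨g, ?_⟩
    rw [hψ, hg, MulEquiv.symm_apply_apply]
  refine ⟨σ, κ, ψ, ⟨P, hsurj, hker ▸ hZc, by rw [hker]; exact hZo⟩, hker, ?_⟩
  intro g
  rw [hψ, MulEquiv.apply_symm_apply]

/-- **The instance.** -/
theorem Setup.exists_cHyp_detHyp (S : Setup q σ κ ψ) :
    ∃ (Z T T' U : Subgroup G) (s s' u : G) (r : ℕ) (b : G →* ℂˣ),
      CHyp (gt S.par ψ) q (-1) Z T T' U s s' u ∧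
      DetHyp q (-1) T T' U s s' u r b ∧ ∀ τ ∈ T', ∀ x ∈ U, τ * x * τ⁻¹ ∈ U := by
  obtain ⟨m, k, hk, hmk⟩ := Nat.exists_eq_two_pow_mul_odd (n := q + 1) (by omega)
  have hm : 1 ≤ m := by
    rcases Nat.eq_zero_or_pos m with h | h
    · exfalso
      rw [h, pow_zero, one_mul] at hmk
      rw [← hmk] at hk
      exact (Nat.not_even_iff_odd.mpr hk) (S.par.odd.add_odd odd_one)
    · exact h
  obtain ⟨b, hb⟩ := S.detHyp hk hmk rfl hm
  exact ⟨_, _, _, _, _, _, _, _, b, S.cHyp, hb, S.norm_U⟩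

/-- **The instance**, for a group `C` isomorphic to `GU₂(q)/Z₀` and its central involution. -/
theorem exists_cHyp_detHyp (hq : Odd q) (hF : Fintype.card F = q ^ 2)
    (Z₀ : Subgroup (Cfsg.GU 2 F q)) [Z₀.Normal] (hZc : Z₀ ≤ Subgroup.center (Cfsg.GU 2 F q))
    (hZo : Odd (Nat.card Z₀)) (hC : Nonempty (G ≃* (Cfsg.GU 2 F q ⧸ Z₀))) (ht : orderOf t = 2)
    (htc : ∀ c, c * t = t * c) :
    ∃ (Z T T' U : Subgroup G) (s s' u : G) (r : ℕ) (b : G →* ℂˣ),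
      CHyp t q (-1) Z T T' U s s' u ∧
      DetHyp q (-1) T T' U s s' u r b ∧ ∀ τ ∈ T', ∀ x ∈ U, τ * x * τ⁻¹ ∈ U := by
  obtain ⟨φ⟩ := hC
  obtain ⟨σ, κ, ψ, S, -, -⟩ := exists_setup hq hF Z₀ hZc hZo φ
  have h := S.eq_neg_one ht htc
  have h2 := S.exists_cHyp_detHyp
  rw [gt, ← h] at h2
  exact h2

/-- **The instance** for `S0485`: `C = C_G(t)`. -/
theorem exists_of_centralizer (hq : Odd q) (hF : Fintype.card F = q ^ 2)
    (Z₀ : Subgroup (Cfsg.GU 2 F q)) [Z₀.Normal] (hZc : Z₀ ≤ Subgroup.center (Cfsg.GU 2 F q))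
    (hZo : Odd (Nat.card Z₀)) (ht : orderOf t = 2)
    (hC : Nonempty (Subgroup.centralizer ({t} : Set G) ≃* (Cfsg.GU 2 F q ⧸ Z₀))) :
    ∃ (t' : Subgroup.centralizer ({t} : Set G))
      (Z T T' U : Subgroup (Subgroup.centralizer ({t} : Set G)))
      (s s' u : Subgroup.centralizer ({t} : Set G)) (r : ℕ)
      (b : Subgroup.centralizer ({t} : Set G) →* ℂˣ), (t' : G) = t ∧
      CHyp t' q (-1) Z T T' U s s' u ∧
      DetHyp q (-1) T T' U s s' u r b ∧ ∀ τ ∈ T', ∀ x ∈ U, τ * x * τ⁻¹ ∈ U := by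
  have hmem : t ∈ Subgroup.centralizer ({t} : Set G) := by
    rw [Subgroup.mem_centralizer_singleton_iff]
  obtain ⟨Z, T, T', U, s, s', u, r, b, h1, h2, h3⟩ := exists_cHyp_detHyp
    (G := Subgroup.centralizer ({t} : Set G)) (t := ⟨t, hmem⟩) hq hF Z₀ hZc hZo hC
    (by rw [← ht, ← Subgroup.orderOf_coe]) (by
      rintro ⟨c, hc⟩
      exact Subtype.ext (Subgroup.mem_centralizer_singleton_iff.mp hc))
  exact ⟨⟨t, hmem⟩, Z, T, T', U, s, s', u, r, b, rfl, h1, h2, h3⟩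

/-- `q` is a prime power. -/
theorem exists_prime_pow (hF : Fintype.card F = q ^ 2) (hq : 1 < q) :
    ∃ p a : ℕ, p.Prime ∧ 1 ≤ a ∧ q = p ^ a := by
  obtain ⟨p, hp⟩ := CharP.exists F
  obtain ⟨n, hprime, hn⟩ := FiniteField.card F p
  have hdvd : q ∣ p ^ (n : ℕ) := by
    rw [← hn, hF, sq]
    exact Dvd.intro _ rfl
  obtain ⟨k, _, rfl⟩ := (Nat.dvd_prime_pow hprime).1 hdvd
  refine ⟨p, k, hprime, ?_, rfl⟩
  rcases Nat.eq_zero_or_pos k with h | h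
  · rw [h, pow_zero] at hq; omega
  · exact h

end

end Cfsg.Agent.Classification.InvCent.InstGU
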